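import Groth.Agent.Lib.AssPts.Points
import Groth.Agent.Lib.QCoh.Support
import Groth.Agent.Lib.HomSh.Coherent
import Groth.Prelude.Def_FlatMod2
import Mathlib.RingTheory.LocalProperties.FinitePresentation
import Mathlib.RingTheory.Flat.Localization

/-!
# Sections of finitely presented modules and flatness over the base on affine opens
-/

set_option autoImplicit false
universe u

open CategoryTheory AlgebraicGeometry Opposite TopologicalSpace

namespace GrothLib.FlatFP

variable {X : Scheme.{u}} (F : X.Modules)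

/-- At an affine open the stalk ring is the localisation at the prime of the point. -/
theorem isLocalization_stalk_primeAt {U : X.Opens} (hU : IsAffineOpen U) {x : X} (hx : x ∈ U) :
    letI := X.presheaf.algebra_section_stalk ⟨x, hx⟩
    IsLocalization (WeakAss.primeAt x hx).primeCompl (X.presheaf.stalk x) := by
  letI := X.presheaf.algebra_section_stalk ⟨x, hx⟩
  have h := hU.isLocalization_stalk ⟨x, hx⟩
  rw [← QCoh.primeAt_eq_primeIdealOf hU hx] at h
  exact h

/-- Finitely many germs have a common denominator. -/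
theorem exists_common_denominator {U : X.Opens} (hU : IsAffineOpen U) {x : X} (hx : x ∈ U)
    {κ : Type u} [Finite κ] (c : κ → X.presheaf.stalk x) :
    ∃ (d : Γ(X, U)) (b : κ → Γ(X, U)), d ∉ WeakAss.primeAt x hx ∧
      ∀ k, X.presheaf.germ U x hx (b k) = X.presheaf.germ U x hx d * c k := by
  letI := X.presheaf.algebra_section_stalk ⟨x, hx⟩
  haveI := isLocalization_stalk_primeAt hU hx
  obtain ⟨d, hd⟩ := IsLocalization.exist_integer_multiples_of_finite
    (WeakAss.primeAt x hx).primeCompl c
  choose b hb using hd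
  refine ⟨d, b, d.2, fun k => ?_⟩
  exact (hb k).trans (Algebra.smul_def _ _)

variable [F.IsQuasicoherent]

/-- The stalk is the localised module of sections on an affine open. -/
theorem isLocalizedModule_germ {U : X.Opens} (hU : IsAffineOpen U) {x : X} (hx : x ∈ U) :
    letI := X.presheaf.algebra_section_stalk ⟨x, hx⟩
    letI : Module Γ(X, U) (F.presheaf.stalk x) := Module.compHom _ (X.presheaf.germ U x hx).hom
    ∃ g : Γ(F, U) →ₗ[Γ(X, U)] F.presheaf.stalk x,
      IsLocalizedModule (WeakAss.primeAt x hx).primeCompl g ∧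
        ∀ z, g z = F.presheaf.germ U x hx z := by
  letI := X.presheaf.algebra_section_stalk ⟨x, hx⟩
  haveI := isLocalization_stalk_primeAt hU hx
  letI : Module Γ(X, U) (F.presheaf.stalk x) := Module.compHom _ (X.presheaf.germ U x hx).hom
  haveI : IsScalarTower Γ(X, U) (X.presheaf.stalk x) (F.presheaf.stalk x) :=
    IsScalarTower.of_algebraMap_smul fun _ _ => rfl
  let g : Γ(F, U) →ₗ[Γ(X, U)] F.presheaf.stalk x :=
    { toFun := F.presheaf.germ U x hx
      map_add' := map_add _
      map_smul' := fun a z => WeakAss.germ_smul hx a z }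
  refine ⟨g, ⟨fun s => ?_, fun m => ?_, fun {z z'} h => ?_⟩, fun z => rfl⟩
  · rw [Module.End.isUnit_iff]
    have hu : IsUnit (X.presheaf.germ U x hx s) :=
      IsLocalization.map_units (X.presheaf.stalk x) s
    exact ⟨fun a b hab => hu.smul_left_cancel.mp hab,
      fun a => ⟨(↑hu.unit⁻¹ : X.presheaf.stalk x) • a, by
        show X.presheaf.germ U x hx s • (↑hu.unit⁻¹ : X.presheaf.stalk x) • a = a
        rw [smul_smul, hu.mul_val_inv, one_smul]⟩⟩
  · obtain ⟨c, z, hc, hz⟩ := WeakAss.exists_smul_eq_germ hU hx m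
    exact ⟨⟨z, ⟨c, hc⟩⟩, hz⟩
  · obtain ⟨c, hc, hcz⟩ := (WeakAss.germ_eq_zero_iff hU hx (z - z')).mp
      (by rw [map_sub]; exact sub_eq_zero.mpr h)
    refine ⟨⟨c, hc⟩, ?_⟩
    rw [smul_sub, sub_eq_zero] at hcz
    exact hcz

/-- An ideal not contained in any prime of a point of `U` is everything. -/
theorem one_mem_of_forall_point {U : X.Opens} (hU : IsAffineOpen U) (I : Ideal Γ(X, U))
    (h : ∀ (y : X) (hy : y ∈ U), ∃ d ∈ I, d ∉ WeakAss.primeAt y hy) : (1 : Γ(X, U)) ∈ I := by
  by_contra h1
  obtain ⟨P, hP, hIP⟩ := Ideal.exists_le_maximal I (fun e => h1 ((Ideal.eq_top_iff_one I).mp e))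
  obtain ⟨y, hy, rfl⟩ := AssPts.exists_point hU P hP.isPrime
  obtain ⟨d, hdI, hd⟩ := h y hy
  exact hd (hIP hdI)

omit [F.IsQuasicoherent] in
/-- Restriction of sections is compatible with germs of linear combinations. -/
theorem germ_sum_smul {U : X.Opens} {y : X} (hy : y ∈ U) {ι : Type u} [Fintype ι]
    (a : ι → Γ(X, U)) (z : ι → Γ(F, U)) :
    F.presheaf.germ U y hy (∑ i, a i • z i) =
      ∑ i, X.presheaf.germ U y hy (a i) • F.presheaf.germ U y hy (z i) := by
  rw [map_sum]
  exact Finset.sum_congr rfl fun i _ => WeakAss.germ_smul hy (a i) (z i)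

/-- Sections on an affine open inside an open with generators and relations are finitely
presented. -/
theorem finitePresentation_of_relOn {W : X.Opens} {ι κ : Type u} [Fintype ι] [Fintype κ]
    {m : ι → Γ(F, W)} {a : κ → ι → Γ(X, W)} (hgen : HomSh.GenOn F W m) (hrel : HomSh.RelOn F m a)
    {D : X.Opens} (hD : IsAffineOpen D) (hDW : D ≤ W) :
    Module.FinitePresentation Γ(X, D) Γ(F, D) := by
  classical
  let mD : ι → Γ(F, D) := fun i => F.presheaf.map (homOfLE hDW).op (m i)
  let aD : κ → ι → Γ(X, D) := fun k i => X.presheaf.map (homOfLE hDW).op (a k i)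
  have hm : ∀ (y : X) (hy : y ∈ D) i,
      F.presheaf.germ D y hy (mD i) = F.presheaf.germ W y (hDW hy) (m i) := fun y hy i =>
    TopCat.Presheaf.germ_res_apply F.presheaf _ _ _ _
  have ha : ∀ (y : X) (hy : y ∈ D) k i,
      X.presheaf.germ D y hy (aD k i) = X.presheaf.germ W y (hDW hy) (a k i) := fun y hy k i =>
    TopCat.Presheaf.germ_res_apply X.presheaf _ _ _ _
  let φ : (ι → Γ(X, D)) →ₗ[Γ(X, D)] Γ(F, D) := Fintype.linearCombination Γ(X, D) mD
  have hφ : ∀ v, φ v = ∑ i, v i • mD i := fun v => Fintype.linearCombination_apply _ _ _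
  have hsurj : Function.Surjective φ := fun z => by
    let I : Ideal Γ(X, D) := (LinearMap.range φ).comap (LinearMap.toSpanSingleton _ _ z)
    suffices h1 : (1 : Γ(X, D)) ∈ I by
      obtain ⟨v, hv⟩ := h1
      exact ⟨v, hv.trans (one_smul _ z)⟩
    refine one_mem_of_forall_point hD I fun y hy => ?_
    obtain ⟨c, hc⟩ := (Submodule.mem_span_range_iff_exists_fun _).1
      ((hgen y (hDW hy)).ge (Submodule.mem_top (x := F.presheaf.germ D y hy z)))
    obtain ⟨d, b, hd, hb⟩ := exists_common_denominator hD hy c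
    obtain ⟨e, he, hez⟩ := (WeakAss.germ_eq_zero_iff hD hy (d • z - φ b)).mp (by
      rw [map_sub, hφ, germ_sum_smul, WeakAss.germ_smul, ← hc, Finset.smul_sum, sub_eq_zero]
      refine Finset.sum_congr rfl fun i _ => ?_
      rw [hb, hm, smul_smul])
    refine ⟨e * d, ⟨e • b, ?_⟩, fun h => (Ideal.IsPrime.mem_or_mem inferInstance h).elim he hd⟩
    show φ (e • b) = (e * d) • z
    rw [map_smul, mul_smul]
    rw [smul_sub, sub_eq_zero] at hez
    exact hez.symm
  refine Module.finitePresentation_of_surjective φ hsurj ?_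
  have hker : LinearMap.ker φ = Submodule.span Γ(X, D) (Set.range aD) := by
    refine le_antisymm (fun v hv => ?_) (Submodule.span_le.mpr ?_)
    · let I : Ideal Γ(X, D) :=
        (Submodule.span Γ(X, D) (Set.range aD)).comap (LinearMap.toSpanSingleton _ _ v)
      suffices h1 : (1 : Γ(X, D)) ∈ I by
        have h2 : (1 : Γ(X, D)) • v ∈ Submodule.span Γ(X, D) (Set.range aD) := h1
        rwa [one_smul] at h2
      refine one_mem_of_forall_point hD I fun y hy => ?_
      have h0 : ∑ i, X.presheaf.germ D y hy (v i) • F.presheaf.germ W y (hDW hy) (m i) = 0 := by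
        have := congrArg (F.presheaf.germ D y hy) (LinearMap.mem_ker.mp hv)
        rw [hφ, germ_sum_smul, map_zero] at this
        simpa only [hm] using this
      obtain ⟨c, hc⟩ := (Submodule.mem_span_range_iff_exists_fun _).1 ((hrel y (hDW hy)).2 _ h0)
      obtain ⟨d, b, hd, hb⟩ := exists_common_denominator hD hy c
      letI := X.presheaf.algebra_section_stalk ⟨y, hy⟩
      haveI := isLocalization_stalk_primeAt hD hy
      have hi : ∀ i, ∃ e : (WeakAss.primeAt y hy).primeCompl,
          (e : Γ(X, D)) * (d * v i) = e * ∑ k, b k * aD k i := fun i => by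
        apply (IsLocalization.eq_iff_exists (WeakAss.primeAt y hy).primeCompl
          (X.presheaf.stalk y)).mp
        show X.presheaf.germ D y hy (d * v i) = X.presheaf.germ D y hy (∑ k, b k * aD k i)
        have hci := congrFun hc i
        simp only [Finset.sum_apply, Pi.smul_apply, smul_eq_mul] at hci
        rw [map_mul, ← hci, map_sum, Finset.mul_sum]
        refine Finset.sum_congr rfl fun k _ => ?_
        rw [map_mul, hb, ha, mul_assoc]
      choose e he using hi
      refine ⟨(∏ i, (e i : Γ(X, D))) * d, ?_, fun h =>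
        (Ideal.IsPrime.mem_or_mem inferInstance h).elim
          (fun h' => by
            obtain ⟨i, -, hi'⟩ := (Ideal.IsPrime.prod_mem_iff (p := WeakAss.primeAt y hy)).mp h'
            exact (e i).2 hi') hd⟩
      show ((∏ i, (e i : Γ(X, D))) * d) • v ∈ Submodule.span Γ(X, D) (Set.range aD)
      refine (Submodule.mem_span_range_iff_exists_fun _).2
        ⟨fun k => (∏ i, (e i : Γ(X, D))) * b k, funext fun i => ?_⟩
      obtain ⟨r, hr⟩ := Finset.dvd_prod_of_mem (fun i => (e i : Γ(X, D))) (Finset.mem_univ i)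
      simp only [Finset.sum_apply, Pi.smul_apply, smul_eq_mul, hr]
      have := congrArg (r * ·) (he i)
      simp only [Finset.mul_sum] at this
      calc ∑ k, (e i : Γ(X, D)) * r * b k * aD k i
          = ∑ k, r * ((e i : Γ(X, D)) * (b k * aD k i)) := Finset.sum_congr rfl fun k _ => by ring
        _ = r * ((e i : Γ(X, D)) * (d * v i)) := this.symm
        _ = (e i : Γ(X, D)) * r * d * v i := by ring
    · rintro _ ⟨k, rfl⟩
      rw [SetLike.mem_coe, LinearMap.mem_ker, hφ]
      refine TopCat.Presheaf.section_ext ⟨F.presheaf, F.isSheaf⟩ D _ 0 fun y hy => ?_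
      show F.presheaf.germ D y hy _ = F.presheaf.germ D y hy 0
      rw [map_zero, germ_sum_smul]
      simp only [ha, hm]
      exact (hrel y (hDW hy)).1 k
  rw [hker]
  exact Submodule.fg_span (Set.finite_range aD)

/-- **Sections of a finitely presented module on an affine open are finitely presented.** -/
theorem finitePresentation_sections (hF : CohB1.IsFP F) {U : X.Opens} (hU : IsAffineOpen U) :
    Module.FinitePresentation Γ(X, U) Γ(F, U) := by
  have hrel := HomSh.hasRel_of_isFP hF
  let s : Set Γ(X, U) := {g | Module.FinitePresentation Γ(X, X.basicOpen g) Γ(F, X.basicOpen g)}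
  have hs : Ideal.span s = ⊤ := by
    rw [← hU.iSup_basicOpen_eq_self_iff]
    refine le_antisymm (iSup_le fun i ↦ X.basicOpen_le _) fun x hx => ?_
    obtain ⟨W, ι, _, κ, _, m, a, hxW, hgen, hr⟩ := hrel x
    obtain ⟨g, hgW, hxg⟩ := hU.exists_basicOpen_le ⟨x, hxW⟩ hx
    exact Opens.mem_iSup.2
      ⟨⟨g, finitePresentation_of_relOn F hgen hr (hU.basicOpen g) hgW⟩, hxg⟩
  letI (g : Γ(X, U)) : Algebra Γ(X, U) Γ(X, X.basicOpen g) :=
    (X.presheaf.map (homOfLE (X.basicOpen_le g)).op).hom.toAlgebra
  haveI (g : Γ(X, U)) : IsLocalization.Away g Γ(X, X.basicOpen g) := hU.isLocalization_basicOpen g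
  letI (g : Γ(X, U)) : Module Γ(X, U) Γ(F, X.basicOpen g) :=
    Module.compHom _ (X.presheaf.map (homOfLE (X.basicOpen_le g)).op).hom
  haveI (g : Γ(X, U)) : IsScalarTower Γ(X, U) Γ(X, X.basicOpen g) Γ(F, X.basicOpen g) :=
    IsScalarTower.of_algebraMap_smul fun _ _ => rfl
  let ϕ (g : s) : Γ(F, U) →ₗ[Γ(X, U)] Γ(F, X.basicOpen g.1) :=
    { toFun := F.presheaf.map (homOfLE (X.basicOpen_le g.1)).op
      map_add' := map_add _
      map_smul' := fun a z => Scheme.Modules.map_smul F (homOfLE (X.basicOpen_le g.1)) a z }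
  haveI (g : s) : IsLocalizedModule (Submonoid.powers g.1) (ϕ g) := by
    obtain ⟨hl, hsep⟩ := QCoh.smulLift_and_smulSep_of_isAffineOpen hU F g.1
    refine IsLocalizedModule.Away.mk_of_addCommGroup ?_ (fun z => ?_) (fun z hz => hsep z hz)
    · have hu : IsUnit (algebraMap Γ(X, U) Γ(X, X.basicOpen g.1) g.1) :=
        IsLocalization.Away.algebraMap_isUnit g.1
      rw [Module.End.isUnit_iff]
      exact ⟨fun a b hab => hu.smul_left_cancel.mp hab,
        fun a => ⟨(↑hu.unit⁻¹ : Γ(X, X.basicOpen g.1)) • a, by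
          show algebraMap Γ(X, U) Γ(X, X.basicOpen g.1) g.1 •
            (↑hu.unit⁻¹ : Γ(X, X.basicOpen g.1)) • a = a
          rw [smul_smul, hu.mul_val_inv, one_smul]⟩⟩
    · obtain ⟨n, t, ht⟩ := hl z
      refine ⟨n, t, ?_⟩
      show algebraMap Γ(X, U) Γ(X, X.basicOpen g.1) (g.1 ^ n) • z = _
      rw [map_pow]
      exact ht.symm
  exact Module.FinitePresentation.of_localizationSpan' s hs ϕ fun g => g.2

end GrothLib.FlatFP
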