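import Groth.Agent.Lib.FlatFP.Sheaf
import Groth.Agent.Lib.FibreFlat.OpenLocus
import Mathlib.AlgebraicGeometry.Morphisms.FinitePresentation

/-!
# Flatness over the base on affine opens; openness of the flat locus
-/

set_option autoImplicit false
universe u

open CategoryTheory AlgebraicGeometry Opposite TopologicalSpace

namespace GrothLib.FlatFP

variable {X Y : Scheme.{u}} (f : X ⟶ Y) (F : X.Modules) [F.IsQuasicoherent]

/-- Flatness over the base at a point of an affine open, in module form. -/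
theorem isFlatOverAt_iff {V : Y.Opens} (hV : IsAffineOpen V) {U : X.Opens} (hU : IsAffineOpen U)
    (e : U ≤ f ⁻¹ᵁ V) {x : X} (hx : x ∈ U) [Algebra Γ(Y, V) Γ(X, U)]
    (halg : algebraMap Γ(Y, V) Γ(X, U) = (f.appLE V U e).hom)
    [Module Γ(Y, V) Γ(F, U)] [IsScalarTower Γ(Y, V) Γ(X, U) Γ(F, U)] :
    FlatMod.IsFlatOverAt f F x ↔
      Module.Flat Γ(Y, V) (LocalizedModule (WeakAss.primeAt x hx).primeCompl Γ(F, U)) := by
  let y : Y := f.base x
  have hy : y ∈ V := e hx
  letI : Algebra Γ(Y, V) (Y.presheaf.stalk y) := (Y.presheaf.germ V y hy).hom.toAlgebra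
  haveI : IsLocalization (WeakAss.primeAt y hy).primeCompl (Y.presheaf.stalk y) :=
    isLocalization_stalk_primeAt hV hy
  letI := X.presheaf.algebra_section_stalk ⟨x, hx⟩
  letI : Module Γ(X, U) (F.presheaf.stalk x) := Module.compHom _ (X.presheaf.germ U x hx).hom
  obtain ⟨g, hg, -⟩ := isLocalizedModule_germ F hU hx
  letI : Module (Y.presheaf.stalk y) (F.presheaf.stalk x) := FlatMod.moduleStalkOver f F x
  letI : Module Γ(Y, V) (F.presheaf.stalk x) :=
    Module.compHom _ ((X.presheaf.germ U x hx).hom.comp (algebraMap Γ(Y, V) Γ(X, U)))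
  haveI : IsScalarTower Γ(Y, V) Γ(X, U) (F.presheaf.stalk x) :=
    IsScalarTower.of_algebraMap_smul fun a m => rfl
  haveI : IsScalarTower Γ(Y, V) (Y.presheaf.stalk y) (F.presheaf.stalk x) :=
    IsScalarTower.of_algebraMap_smul fun a m => by
      have h1 : (f.stalkMap x).hom (Y.presheaf.germ V y hy a) =
          X.presheaf.germ U x hx (f.appLE V U e a) := by
        show (f.stalkMap x) (Y.presheaf.germ V (f x) hy a) = _
        rw [Scheme.Hom.germ_stalkMap_apply]
        exact (TopCat.Presheaf.germ_res_apply X.presheaf (homOfLE e) x hx _).symm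
      show (f.stalkMap x).hom (Y.presheaf.germ V y hy a) • m =
        (X.presheaf.germ U x hx).hom (algebraMap Γ(Y, V) Γ(X, U) a) • m
      rw [h1, halg]
  let eq := (IsLocalizedModule.linearEquiv (WeakAss.primeAt x hx).primeCompl
    (LocalizedModule.mkLinearMap (WeakAss.primeAt x hx).primeCompl Γ(F, U)) g).restrictScalars Γ(Y, V)
  show Module.Flat (Y.presheaf.stalk y) (F.presheaf.stalk x) ↔ _
  rw [Module.flat_iff_of_isLocalization (Y.presheaf.stalk y) (WeakAss.primeAt y hy).primeCompl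
    (F.presheaf.stalk x)]
  exact ⟨fun _ => Module.Flat.of_linearEquiv eq, fun _ => Module.Flat.of_linearEquiv eq.symm⟩

theorem flat_localized_prime_congr {A B M : Type u} [CommRing A] [CommRing B] [Algebra A B]
    [AddCommGroup M] [Module B M] [Module A M] [IsScalarTower A B M] {P Q : Ideal B} [P.IsPrime]
    [Q.IsPrime] (h : P = Q) (hP : Module.Flat A (LocalizedModule P.primeCompl M)) :
    Module.Flat A (LocalizedModule Q.primeCompl M) := by
  subst h
  exact hP

/-- **The flat locus of a finitely presented module is open.** -/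
theorem isOpen_flatLocus [LocallyOfFinitePresentation f] (hF : CohB1.IsFP F) :
    IsOpen {x : X | FlatMod.IsFlatOverAt f F x} := by
  rw [isOpen_iff_forall_mem_open]
  intro x hx
  obtain ⟨V, hV, hxV, -⟩ := exists_isAffineOpen_mem_and_subset (show f.base x ∈ (⊤ : Y.Opens) from trivial)
  obtain ⟨U, hU, hxU, e⟩ := exists_isAffineOpen_mem_and_subset (show x ∈ f ⁻¹ᵁ V from hxV)
  letI : Algebra Γ(Y, V) Γ(X, U) := (f.appLE V U e).hom.toAlgebra
  letI : Module Γ(Y, V) Γ(F, U) := Module.compHom _ (algebraMap Γ(Y, V) Γ(X, U))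
  haveI : IsScalarTower Γ(Y, V) Γ(X, U) Γ(F, U) := IsScalarTower.of_algebraMap_smul fun _ _ => rfl
  haveI : Algebra.FinitePresentation Γ(Y, V) Γ(X, U) :=
    HasRingHomProperty.appLE @LocallyOfFinitePresentation f ‹_› ⟨V, hV⟩ ⟨U, hU⟩ e
  haveI := finitePresentation_sections F hF hU
  have hopen := GrothLib.FibreFlat.isOpen_flat_locus (R := Γ(Y, V)) (A := Γ(X, U)) (M := Γ(F, U))
  refine ⟨hU.fromSpec '' {q | Module.Flat Γ(Y, V) (LocalizedModule q.asIdeal.primeCompl Γ(F, U))},
    ?_, hU.fromSpec.isOpenEmbedding.isOpenMap _ hopen, ?_⟩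
  · rintro z ⟨q, hq, rfl⟩
    refine (isFlatOverAt_iff f F hV hU e (WeakAss.fromSpec_mem hU q) rfl).mpr ?_
    exact flat_localized_prime_congr
      (WeakAss.primeAt_fromSpec hU q (WeakAss.fromSpec_mem hU q)).symm hq
  · obtain ⟨q, rfl⟩ : x ∈ Set.range hU.fromSpec := hU.range_fromSpec.symm ▸ hxU
    refine ⟨q, ?_, rfl⟩
    have := (isFlatOverAt_iff f F hV hU e (WeakAss.fromSpec_mem hU q) rfl).mp hx
    exact flat_localized_prime_congr (WeakAss.primeAt_fromSpec hU q (WeakAss.fromSpec_mem hU q)) this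

end GrothLib.FlatFP
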