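import Groth.Agent.Lib.FlatFP.Syzygy
import Groth.Agent.Lib.FlatFP.SheafFlat
import Groth.Agent.Lib.QCoh.Coherent

/-!
# Kernels of surjections onto flat finitely presented modules
-/

set_option autoImplicit false
universe u

open CategoryTheory CategoryTheory.Limits AlgebraicGeometry Opposite TopologicalSpace
open AlgebraicGeometry.Scheme.Modules

namespace GrothLib.FlatFP

/-- The kernel of a surjection of finitely presented modules onto a flat one is finitely presented. -/
theorem finitePresentation_ker (A B G H : Type u) [CommRing A] [CommRing B] [Algebra A B]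
    [Algebra.FinitePresentation A B] [AddCommGroup G] [Module B G] [AddCommGroup H] [Module B H]
    [Module A H] [IsScalarTower A B H] [Module.FinitePresentation B G]
    [Module.FinitePresentation B H] [Module.Flat A H] (p : G →ₗ[B] H) (hp : Function.Surjective p) :
    Module.FinitePresentation B (LinearMap.ker p) := by
  obtain ⟨r, f, hf, hK⟩ := exists_ker_fp A B H
  let d : G × (Fin r → B) →ₗ[B] H := p ∘ₗ LinearMap.fst B G _ - f ∘ₗ LinearMap.snd B G _
  let P := LinearMap.ker d
  let π₁ : P →ₗ[B] G := LinearMap.fst B G _ ∘ₗ P.subtype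
  let π₂ : P →ₗ[B] (Fin r → B) := LinearMap.snd B G _ ∘ₗ P.subtype
  have hP : ∀ z : P, p z.1.1 = f z.1.2 := fun z => sub_eq_zero.mp z.2
  have hπ₁ : Function.Surjective π₁ := fun g => by
    obtain ⟨v, hv⟩ := hf (p g)
    exact ⟨⟨(g, v), sub_eq_zero.mpr hv.symm⟩, rfl⟩
  have hπ₂ : Function.Surjective π₂ := fun v => by
    obtain ⟨g, hg⟩ := hp (f v)
    exact ⟨⟨(g, v), sub_eq_zero.mpr hg⟩, rfl⟩
  let e : LinearMap.ker π₁ ≃ₗ[B] LinearMap.ker f :=
    { toFun := fun z => ⟨z.1.1.2, by
        have h0 : z.1.1.1 = 0 := z.2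
        rw [LinearMap.mem_ker, ← hP, h0, map_zero]⟩
      invFun := fun v => ⟨⟨(0, v.1), by
        show p 0 - f v.1 = 0
        rw [map_zero, LinearMap.mem_ker.mp v.2, sub_zero]⟩, rfl⟩
      left_inv := fun z => Subtype.ext (Subtype.ext (Prod.ext z.2.symm rfl))
      right_inv := fun v => rfl
      map_add' := fun _ _ => rfl
      map_smul' := fun _ _ => rfl }
  haveI : Module.FinitePresentation B (LinearMap.ker π₁) :=
    @Module.FinitePresentation.of_equiv B (LinearMap.ker f) (LinearMap.ker π₁) _ _ _ _ _ e.symm hK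
  haveI : Module.FinitePresentation B P := Module.finitePresentation_of_ker π₁ hπ₁
  obtain ⟨l, hl⟩ := Module.projective_lifting_property π₂ (LinearMap.id) hπ₂
  let i : LinearMap.ker p →ₗ[B] P :=
    LinearMap.codRestrict P (LinearMap.inl B G _ ∘ₗ (LinearMap.ker p).subtype) fun z => by
      show p z.1 - f 0 = 0
      rw [LinearMap.mem_ker.mp z.2, map_zero, sub_zero]
  refine Module.finitePresentation_of_split_exact i π₂ l hl (fun a b hab => ?_) fun z => ?_
  · exact Subtype.ext (congrArg (fun w : P => w.1.1) hab)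
  · constructor
    · intro hz
      have h0 : z.1.2 = 0 := hz
      exact ⟨⟨z.1.1, by rw [LinearMap.mem_ker, hP, h0, map_zero]⟩,
        Subtype.ext (Prod.ext rfl h0.symm)⟩
    · rintro ⟨w, rfl⟩
      rfl

/-- Finite presentation from finitely presented sections on an affine cover. -/
theorem isFP_of_sections {X : Scheme.{u}} (M : X.Modules) [M.IsQuasicoherent] {ι : Type u}
    (U : ι → X.Opens) (hU : IsOpenCover U) (hA : ∀ i, IsAffineOpen (U i))
    (h : ∀ i, Module.FinitePresentation Γ(X, U i) Γ(M, U i)) : CohB1.IsFP M := by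
  have hfp (i : ι) :=
    have := h i
    Module.FinitePresentation.of_equiv (R := Γ(X, U i)) (QCoh.topLinearEquiv (hA i) M).symm
  choose s hs using fun i ↦ (hfp i).out
  let t (i : ι) := ((hs i).2).choose
  have ht (i : ι) := ((hs i).2).choose_spec
  let P i := QCoh.presentationAffine (hA i) M (s i) (hs i).1 (t i) (ht i)
  have hs' i : Finite (QCoh.presentationOver (P i)).generators.I := (s i).finite_toSet.to_subtype
  have ht' i : Finite (QCoh.presentationOver (P i)).relations.I := (t i).finite_toSet.to_subtype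
  let q : SheafOfModules.QuasicoherentData.{u} (R := X.ringCatSheaf) M :=
    { I := ι, X := U,
      coversTop := (Opens.coversTop_iff _ U).2 hU,
      presentation := fun i ↦ QCoh.presentationOver (P i) }
  have hq : q.IsFinitePresentation := by constructor; intro i; exact ⟨⟨hs' i⟩, ⟨ht' i⟩⟩
  constructor
  exact ⟨q, hq⟩

/-- Flatness over the base on all points gives flat sections on affine opens. -/
theorem flat_sections {X Y : Scheme.{u}} (f : X ⟶ Y) (F : X.Modules) [F.IsQuasicoherent]
    {V : Y.Opens} (hV : IsAffineOpen V) {U : X.Opens} (hU : IsAffineOpen U) (e : U ≤ f ⁻¹ᵁ V)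
    [Algebra Γ(Y, V) Γ(X, U)] (halg : algebraMap Γ(Y, V) Γ(X, U) = (f.appLE V U e).hom)
    [Module Γ(Y, V) Γ(F, U)] [IsScalarTower Γ(Y, V) Γ(X, U) Γ(F, U)]
    (h : ∀ x ∈ U, FlatMod.IsFlatOverAt f F x) : Module.Flat Γ(Y, V) Γ(F, U) := by
  refine Module.flat_of_isLocalized_maximal Γ(X, U) Γ(F, U)
    (fun P _ => LocalizedModule P.primeCompl Γ(F, U))
    (fun P _ => LocalizedModule.mkLinearMap P.primeCompl Γ(F, U)) fun P hP => ?_
  obtain ⟨x, hx, hxP⟩ := AssPts.exists_point hU P hP.isPrime
  exact flat_localized_prime_congr hxP ((isFlatOverAt_iff f F hV hU e hx halg).mp (h x hx))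

/-- **The kernel of an epimorphism of finitely presented modules onto a flat one.** -/
theorem isFP_kernel {X Y : Scheme.{u}} (f : X ⟶ Y) [LocallyOfFinitePresentation f]
    (G H : X.Modules) [G.IsQuasicoherent] [H.IsQuasicoherent] (hG : CohB1.IsFP G)
    (hH : CohB1.IsFP H) (hflat : FlatMod.IsFlatOver f H) (p : G ⟶ H) [Epi p] :
    CohB1.IsFP (kernel p) := by
  haveI := QCoh.isQuasicoherent_kernel p
  let S : ShortComplex X.Modules := ShortComplex.mk (kernel.ι p) p (kernel.condition p)
  have hS : S.ShortExact := { exact := ShortComplex.exact_kernel p }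
  have hloc : ∀ x : X, ∃ (U : X.Opens) (_ : IsAffineOpen U), x ∈ U ∧
      Module.FinitePresentation Γ(X, U) Γ(kernel p, U) := by
    intro x
    obtain ⟨V, hV, hxV, -⟩ := exists_isAffineOpen_mem_and_subset (show f.base x ∈ (⊤ : Y.Opens) from trivial)
    obtain ⟨U, hU, hxU, e⟩ := exists_isAffineOpen_mem_and_subset (show x ∈ f ⁻¹ᵁ V from hxV)
    refine ⟨U, hU, hxU, ?_⟩
    letI : Algebra Γ(Y, V) Γ(X, U) := (f.appLE V U e).hom.toAlgebra
    letI : Module Γ(Y, V) Γ(H, U) := Module.compHom _ (algebraMap Γ(Y, V) Γ(X, U))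
    haveI : IsScalarTower Γ(Y, V) Γ(X, U) Γ(H, U) := IsScalarTower.of_algebraMap_smul fun _ _ => rfl
    haveI : Algebra.FinitePresentation Γ(Y, V) Γ(X, U) :=
      HasRingHomProperty.appLE @LocallyOfFinitePresentation f ‹_› ⟨V, hV⟩ ⟨U, hU⟩ e
    haveI := finitePresentation_sections G hG hU
    haveI := finitePresentation_sections H hH hU
    haveI := flat_sections f H hV hU e rfl fun z _ => hflat z
    have hsurj : Function.Surjective (QCoh.appLinear p U) :=
      @QCoh.app_surjective_of_isAffineOpen _ _ hS (inferInstanceAs (kernel p).IsQuasicoherent) U hU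
    haveI := finitePresentation_ker Γ(Y, V) Γ(X, U) Γ(G, U) Γ(H, U) (QCoh.appLinear p U) hsurj
    let i : Γ(kernel p, U) →ₗ[Γ(X, U)] LinearMap.ker (QCoh.appLinear p U) :=
      LinearMap.codRestrict _ (QCoh.appLinear (kernel.ι p) U) fun z => by
        show (kernel.ι p ≫ p).app U z = 0
        rw [kernel.condition]
        rfl
    refine Module.FinitePresentation.of_equiv (LinearEquiv.ofBijective i ⟨fun a b hab => ?_, ?_⟩).symm
    · exact QCoh.app_injective hS U (congrArg Subtype.val hab)
    · rintro ⟨z, hz⟩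
      obtain ⟨w, hw⟩ := QCoh.app_exact hS U z hz
      exact ⟨w, Subtype.ext hw⟩
  choose U hU hxU hfp using hloc
  refine isFP_of_sections (kernel p) U (top_le_iff.mp fun x _ => ?_) hU hfp
  exact Opens.mem_iSup.mpr ⟨x, hxU x⟩

end GrothLib.FlatFP
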