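import Groth.Agent.Lib.FlatFP.SheafFlat
import Groth.Agent.Lib.QCoh.StalkPullback
import Groth.Agent.Lib.AssPts.Points
import Mathlib.RingTheory.Localization.BaseChange

/-!
# Flatness of pullbacks on affine opens
-/

set_option autoImplicit false
universe u

open CategoryTheory AlgebraicGeometry Opposite TopologicalSpace TensorProduct

namespace GrothLib.FlatFP

/-- A tower of localisations and base changes of a module. -/
theorem isLocalizedModule_baseChange {R S R' S' M M' : Type u} [CommRing R] [CommRing S] [CommRing R']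
    [CommRing S'] [Algebra R S] [Algebra R R'] [Algebra R' S'] [Algebra S S'] [Algebra R S']
    [IsScalarTower R R' S'] [IsScalarTower R S S'] (P : Submonoid S) [IsLocalization P S']
    [AddCommGroup M] [Module R M] [AddCommGroup M'] [Module R M'] [Module R' M']
    [IsScalarTower R R' M'] (f : M →ₗ[R] M') (hf : IsBaseChange R' f) :
    ∃ g : S ⊗[R] M →ₗ[S] S' ⊗[R'] M', IsLocalizedModule P g := by
  have h2 := hf.comp (TensorProduct.isBaseChange R' M' S')
  let j : M →ₗ[R] S' ⊗[R'] M' := ((TensorProduct.mk R' S' M' 1).restrictScalars R).comp f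
  haveI : SMulCommClass R' S S' := ⟨fun a b x => by simp [Algebra.smul_def, mul_left_comm]⟩
  haveI : IsScalarTower S S' (S' ⊗[R'] M') := TensorProduct.isScalarTower_left
  haveI : IsScalarTower R S (S' ⊗[R'] M') := IsScalarTower.of_algebraMap_smul fun r z => by
    rw [← algebraMap_smul S' (algebraMap R S r) z, ← IsScalarTower.algebraMap_apply,
      algebraMap_smul]
  refine ⟨j.liftBaseChange S, (isLocalizedModule_iff_isBaseChange P S' _).mpr ?_⟩
  refine IsBaseChange.of_comp (TensorProduct.isBaseChange R M S) ?_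
  convert h2 using 1
  ext m
  simp [j]

variable {X X₀ Y : Scheme.{u}}

/-- Sections on an affine open compute the stalks of a pullback. -/
theorem exists_isLocalizedModule_pullback (q : X ⟶ X₀) (F₀ : X₀.Modules) [F₀.IsQuasicoherent]
    {U₀ : X₀.Opens} (hU₀ : IsAffineOpen U₀) {U : X.Opens} (hU : IsAffineOpen U) (e : U ≤ q ⁻¹ᵁ U₀)
    {x : X} (hx : x ∈ U) [Algebra Γ(X₀, U₀) Γ(X, U)]
    (halg : algebraMap Γ(X₀, U₀) Γ(X, U) = (q.appLE U₀ U e).hom) :
    letI : Module Γ(X, U) (((Scheme.Modules.pullback q).obj F₀).presheaf.stalk x) :=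
      Module.compHom _ (X.presheaf.germ U x hx).hom
    ∃ g : Γ(X, U) ⊗[Γ(X₀, U₀)] Γ(F₀, U₀) →ₗ[Γ(X, U)]
        ((Scheme.Modules.pullback q).obj F₀).presheaf.stalk x,
      IsLocalizedModule (WeakAss.primeAt x hx).primeCompl g := by
  letI := X.presheaf.algebra_section_stalk ⟨x, hx⟩
  haveI := isLocalization_stalk_primeAt hU hx
  letI := X₀.presheaf.algebra_section_stalk ⟨q.base x, e hx⟩
  haveI := isLocalization_stalk_primeAt hU₀ (e hx)
  letI : Module Γ(X₀, U₀) (F₀.presheaf.stalk (q.base x)) :=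
    Module.compHom _ (X₀.presheaf.germ U₀ (q.base x) (e hx)).hom
  haveI : IsScalarTower Γ(X₀, U₀) (X₀.presheaf.stalk (q.base x)) (F₀.presheaf.stalk (q.base x)) :=
    IsScalarTower.of_algebraMap_smul fun _ _ => rfl
  obtain ⟨g₀, hg₀, -⟩ := isLocalizedModule_germ F₀ hU₀ (e hx)
  letI : Algebra (X₀.presheaf.stalk (q.base x)) (X.presheaf.stalk x) := (q.stalkMap x).hom.toAlgebra
  letI : Algebra Γ(X₀, U₀) (X.presheaf.stalk x) :=
    ((algebraMap Γ(X, U) (X.presheaf.stalk x)).comp (algebraMap Γ(X₀, U₀) Γ(X, U))).toAlgebra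
  haveI : IsScalarTower Γ(X₀, U₀) Γ(X, U) (X.presheaf.stalk x) :=
    IsScalarTower.of_algebraMap_eq fun _ => rfl
  haveI : IsScalarTower Γ(X₀, U₀) (X₀.presheaf.stalk (q.base x)) (X.presheaf.stalk x) :=
    IsScalarTower.of_algebraMap_eq fun a => by
      show X.presheaf.germ U x hx (algebraMap Γ(X₀, U₀) Γ(X, U) a) =
        (q.stalkMap x) (X₀.presheaf.germ U₀ (q x) (e hx) a)
      rw [Scheme.Hom.germ_stalkMap_apply, halg]
      exact TopCat.Presheaf.germ_res_apply X.presheaf (homOfLE e) x hx _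
  obtain ⟨g, hg⟩ := isLocalizedModule_baseChange (S := Γ(X, U)) (S' := X.presheaf.stalk x)
    (WeakAss.primeAt x hx).primeCompl g₀
    (IsLocalizedModule.isBaseChange (WeakAss.primeAt (q.base x) (e hx)).primeCompl
      (X₀.presheaf.stalk (q.base x)) g₀)
  let iso : ((Scheme.Modules.pullback q).obj F₀).presheaf.stalk x ≃ₗ[X.presheaf.stalk x]
      X.presheaf.stalk x ⊗[X₀.presheaf.stalk (q.base x)] F₀.presheaf.stalk (q.base x) :=
    ((QCoh.stalkPullbackIso q x).app F₀).toLinearEquiv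
  letI : Module Γ(X, U) (((Scheme.Modules.pullback q).obj F₀).presheaf.stalk x) :=
    Module.compHom _ (X.presheaf.germ U x hx).hom
  haveI : IsScalarTower Γ(X, U) (X.presheaf.stalk x)
      (((Scheme.Modules.pullback q).obj F₀).presheaf.stalk x) :=
    IsScalarTower.of_algebraMap_smul fun _ _ => rfl
  exact ⟨(iso.symm.restrictScalars Γ(X, U)).toLinearMap ∘ₗ g,
    IsLocalizedModule.of_linearEquiv _ g (iso.symm.restrictScalars Γ(X, U))⟩

/-- Flatness over the base at a point, read on a module with the stalk as localisation. -/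
theorem isFlatOverAt_iff_of_isLocalizedModule (f : X ⟶ Y) (F : X.Modules) {V : Y.Opens}
    (hV : IsAffineOpen V) {U : X.Opens} (e : U ≤ f ⁻¹ᵁ V) {x : X} (hx : x ∈ U)
    [Algebra Γ(Y, V) Γ(X, U)] (halg : algebraMap Γ(Y, V) Γ(X, U) = (f.appLE V U e).hom)
    {N : Type u} [AddCommGroup N] [Module Γ(X, U) N] [Module Γ(Y, V) N]
    [IsScalarTower Γ(Y, V) Γ(X, U) N]
    (hN : letI : Module Γ(X, U) (F.presheaf.stalk x) := Module.compHom _ (X.presheaf.germ U x hx).hom
      ∃ g : N →ₗ[Γ(X, U)] F.presheaf.stalk x, IsLocalizedModule (WeakAss.primeAt x hx).primeCompl g) :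
    FlatMod.IsFlatOverAt f F x ↔
      Module.Flat Γ(Y, V) (LocalizedModule (WeakAss.primeAt x hx).primeCompl N) := by
  let y : Y := f.base x
  have hy : y ∈ V := e hx
  letI : Algebra Γ(Y, V) (Y.presheaf.stalk y) := (Y.presheaf.germ V y hy).hom.toAlgebra
  haveI : IsLocalization (WeakAss.primeAt y hy).primeCompl (Y.presheaf.stalk y) :=
    isLocalization_stalk_primeAt hV hy
  letI : Module Γ(X, U) (F.presheaf.stalk x) := Module.compHom _ (X.presheaf.germ U x hx).hom
  obtain ⟨g, hg⟩ := hN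
  letI : Module (Y.presheaf.stalk y) (F.presheaf.stalk x) := FlatMod.moduleStalkOver f F x
  letI : Module Γ(Y, V) (F.presheaf.stalk x) :=
    Module.compHom _ ((X.presheaf.germ U x hx).hom.comp (algebraMap Γ(Y, V) Γ(X, U)))
  haveI : IsScalarTower Γ(Y, V) Γ(X, U) (F.presheaf.stalk x) :=
    IsScalarTower.of_algebraMap_smul fun a m => rfl
  haveI : IsScalarTower Γ(Y, V) (Y.presheaf.stalk y) (F.presheaf.stalk x) :=
    IsScalarTower.of_algebraMap_smul fun a m => by
      have h1 : (f.stalkMap x).hom (Y.presheaf.germ V y hy a) =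
          X.presheaf.germ U x hx (f.appLE V U e a) := by
        show (f.stalkMap x) (Y.presheaf.germ V (f x) hy a) = _
        rw [Scheme.Hom.germ_stalkMap_apply]
        exact (TopCat.Presheaf.germ_res_apply X.presheaf (homOfLE e) x hx _).symm
      show (f.stalkMap x).hom (Y.presheaf.germ V y hy a) • m =
        (X.presheaf.germ U x hx).hom (algebraMap Γ(Y, V) Γ(X, U) a) • m
      rw [h1, halg]
  let eq := (IsLocalizedModule.linearEquiv (WeakAss.primeAt x hx).primeCompl
    (LocalizedModule.mkLinearMap (WeakAss.primeAt x hx).primeCompl N) g).restrictScalars Γ(Y, V)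
  show Module.Flat (Y.presheaf.stalk y) (F.presheaf.stalk x) ↔ _
  rw [Module.flat_iff_of_isLocalization (Y.presheaf.stalk y) (WeakAss.primeAt y hy).primeCompl
    (F.presheaf.stalk x)]
  exact ⟨fun _ => Module.Flat.of_linearEquiv eq, fun _ => Module.Flat.of_linearEquiv eq.symm⟩

/-- **Flatness of a pullback at a point, in affine coordinates.** -/
theorem isFlatOverAt_pullback_iff (f : X ⟶ Y) (q : X ⟶ X₀) (F₀ : X₀.Modules) [F₀.IsQuasicoherent]
    {U₀ : X₀.Opens} (hU₀ : IsAffineOpen U₀) {V : Y.Opens} (hV : IsAffineOpen V) {U : X.Opens}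
    (hU : IsAffineOpen U) (e₀ : U ≤ q ⁻¹ᵁ U₀) (e : U ≤ f ⁻¹ᵁ V) {x : X} (hx : x ∈ U)
    [Algebra Γ(X₀, U₀) Γ(X, U)] (halg₀ : algebraMap Γ(X₀, U₀) Γ(X, U) = (q.appLE U₀ U e₀).hom)
    [Algebra Γ(Y, V) Γ(X, U)] (halg : algebraMap Γ(Y, V) Γ(X, U) = (f.appLE V U e).hom) :
    haveI : SMulCommClass Γ(X₀, U₀) Γ(Y, V) Γ(X, U) :=
      ⟨fun a b x => by simp [Algebra.smul_def, mul_left_comm]⟩
    FlatMod.IsFlatOverAt f ((Scheme.Modules.pullback q).obj F₀) x ↔
      Module.Flat Γ(Y, V) (LocalizedModule (WeakAss.primeAt x hx).primeCompl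
        (Γ(X, U) ⊗[Γ(X₀, U₀)] Γ(F₀, U₀))) := by
  haveI : SMulCommClass Γ(X₀, U₀) Γ(Y, V) Γ(X, U) :=
    ⟨fun a b x => by simp [Algebra.smul_def, mul_left_comm]⟩
  haveI : IsScalarTower Γ(Y, V) Γ(X, U) (Γ(X, U) ⊗[Γ(X₀, U₀)] Γ(F₀, U₀)) :=
    TensorProduct.isScalarTower_left
  exact isFlatOverAt_iff_of_isLocalizedModule f _ hV e hx halg
    (exists_isLocalizedModule_pullback q F₀ hU₀ hU e₀ hx halg₀)

end GrothLib.FlatFP
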