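import Groth.Agent.Lib.FlatFP.InjCoker
import Groth.Agent.Lib.FlatFP.SheafFlat

/-!
# Injective stalk maps with flat cokernel, on affine opens
-/

set_option autoImplicit false
universe u

open CategoryTheory CategoryTheory.Limits AlgebraicGeometry Opposite TopologicalSpace
open AlgebraicGeometry.Scheme.Modules

namespace GrothLib.FlatFP

variable {X : Scheme.{u}} {F' F : X.Modules} (u : F' ⟶ F)

/-- Germs commute with stalk maps. -/
theorem stalkMap_germ {U : X.Opens} {x : X} (hx : x ∈ U) (z : Γ(F', U)) :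
    (TopCat.Presheaf.stalkFunctor Ab x).map (Scheme.Modules.Hom.mapPresheaf u)
      (F'.presheaf.germ U x hx z) = F.presheaf.germ U x hx (QCoh.appLinear u U z) :=
  TopCat.Presheaf.stalkFunctor_map_germ_apply U x hx (Scheme.Modules.Hom.mapPresheaf u) z

/-- Injectivity of a stalk map, read on an affine open. -/
theorem injective_stalkMap_iff [F'.IsQuasicoherent] [F.IsQuasicoherent] {U : X.Opens}
    (hU : IsAffineOpen U) {x : X} (hx : x ∈ U) :
    Function.Injective
        ((TopCat.Presheaf.stalkFunctor Ab x).map (Scheme.Modules.Hom.mapPresheaf u)) ↔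
      ∀ z, QCoh.appLinear u U z = 0 → ∃ t ∉ WeakAss.primeAt x hx, t • z = 0 := by
  let φ : F'.presheaf.stalk x →ₗ[X.presheaf.stalk x] F.presheaf.stalk x := ((OX.stalk x).map u).hom
  have hφ : ∀ z, φ (F'.presheaf.germ U x hx z) = F.presheaf.germ U x hx (QCoh.appLinear u U z) :=
    fun z => stalkMap_germ u hx z
  show Function.Injective φ ↔ _
  constructor
  · intro h z hz
    refine (WeakAss.germ_eq_zero_iff hU hx z).mp (h ?_)
    rw [hφ, hz, map_zero, map_zero]
  · intro h
    rw [injective_iff_map_eq_zero]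
    intro m hm
    obtain ⟨c, z, hc, hz⟩ := WeakAss.exists_smul_eq_germ hU hx m
    have hu : IsUnit (X.presheaf.germ U x hx c) := HomSh.isUnit_germ hx hc
    have h1 : F.presheaf.germ U x hx (QCoh.appLinear u U z) = 0 := by
      rw [← hφ, ← hz, φ.map_smul, hm, smul_zero]
    obtain ⟨t, ht, htz⟩ := (WeakAss.germ_eq_zero_iff hU hx _).mp h1
    obtain ⟨t', ht', htz'⟩ := h (t • z) (((QCoh.appLinear u U).map_smul t z).trans htz)
    have h2 : X.presheaf.germ U x hx (t' * t) • F'.presheaf.germ U x hx z = 0 := by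
      rw [← WeakAss.germ_smul, mul_smul, htz', map_zero]
    rw [← hz, smul_smul] at h2
    refine ((IsUnit.mul ?_ hu).smul_eq_zero).mp h2
    rw [map_mul]
    exact (HomSh.isUnit_germ hx ht').mul (HomSh.isUnit_germ hx ht)

/-- Sections of a cokernel on an affine open. -/
theorem exact_cokernel_sections [F'.IsQuasicoherent] [F.IsQuasicoherent] {U : X.Opens}
    (hU : IsAffineOpen U) :
    Function.Exact (QCoh.appLinear u U) (QCoh.appLinear (cokernel.π u) U) ∧
      Function.Surjective (QCoh.appLinear (cokernel.π u) U) := by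
  haveI := QCoh.isQuasicoherent_image u
  have hS : (ShortComplex.mk (kernel.ι (cokernel.π u)) (cokernel.π u)
      (kernel.condition _)).ShortExact :=
    { exact := ShortComplex.exact_kernel _ }
  let e := Abelian.factorThruImage u
  haveI := QCoh.isQuasicoherent_kernel e
  have hSe : (ShortComplex.mk (kernel.ι e) e (kernel.condition _)).ShortExact :=
    { exact := ShortComplex.exact_kernel _ }
  refine ⟨fun b => ⟨fun hb => ?_, ?_⟩,
    @QCoh.app_surjective_of_isAffineOpen _ _ hS (inferInstanceAs (Abelian.image u).IsQuasicoherent) U hU⟩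
  · obtain ⟨a, ha⟩ := QCoh.app_exact hS U b hb
    obtain ⟨w, hw⟩ := @QCoh.app_surjective_of_isAffineOpen _ _ hSe
      (inferInstanceAs (kernel e).IsQuasicoherent) U hU a
    refine ⟨w, ?_⟩
    rw [← ha, ← hw]
    show u.app U w = (e ≫ kernel.ι (cokernel.π u)).app U w
    rw [Abelian.image.fac]
  · rintro ⟨w, rfl⟩
    show (u ≫ cokernel.π u).app U w = 0
    rw [cokernel.condition]
    rfl

/-- The sections of a cokernel on an affine open are finitely presented. -/
theorem finitePresentation_cokernel_sections [F'.IsQuasicoherent] [F.IsQuasicoherent]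
    (hF : CohB1.IsFP F) (hF' : CohB1.IsFP F') {U : X.Opens} (hU : IsAffineOpen U) :
    Module.FinitePresentation Γ(X, U) Γ(cokernel u, U) := by
  obtain ⟨hex, hsurj⟩ := exact_cokernel_sections u hU
  haveI := finitePresentation_sections F hF hU
  haveI := finitePresentation_sections F' hF' hU
  refine Module.finitePresentation_of_surjective _ hsurj ?_
  rw [LinearMap.exact_iff.mp hex, LinearMap.range_eq_map]
  exact Module.Finite.fg_top.map _

theorem isFP_cokernel [F'.IsQuasicoherent] [F.IsQuasicoherent] (hF : CohB1.IsFP F)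
    (hF' : CohB1.IsFP F') : CohB1.IsFP (cokernel u) := by
  haveI := QCoh.isQuasicoherent_cokernel u
  exact isFP_of_sections (cokernel u) (fun U : X.affineOpens => U.1) (iSup_affineOpens_eq_top X)
    (fun U => U.2) fun U => finitePresentation_cokernel_sections u hF hF' U.2

variable {Y : Scheme.{u}} (f : X ⟶ Y)

/-- Flatness over the base at a point is invariant under isomorphisms. -/
theorem isFlatOverAt_congr {M N : X.Modules} (e : M ≅ N) (x : X) :
    FlatMod.IsFlatOverAt f M x ↔ FlatMod.IsFlatOverAt f N x := by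
  let l : M.presheaf.stalk x ≃ₗ[X.presheaf.stalk x] N.presheaf.stalk x :=
    ((OX.stalk x).mapIso e).toLinearEquiv
  letI := FlatMod.moduleStalkOver f M x
  letI := FlatMod.moduleStalkOver f N x
  let l' : M.presheaf.stalk x ≃ₗ[Y.presheaf.stalk (f.base x)] N.presheaf.stalk x :=
    { l.toAddEquiv with map_smul' := fun a m => l.map_smul ((f.stalkMap x).hom a) m }
  exact ⟨fun (_ : Module.Flat _ _) => Module.Flat.of_linearEquiv l'.symm,
    fun (_ : Module.Flat _ _) => Module.Flat.of_linearEquiv l'⟩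

/-- **The locus where a map is injective with flat cokernel is open.** -/
theorem isOpen_injCoker [LocallyOfFinitePresentation f] [F'.IsQuasicoherent] [F.IsQuasicoherent]
    (hF : CohB1.IsFP F) (hF' : CohB1.IsFP F') :
    IsOpen {x : X | Function.Injective
        ((TopCat.Presheaf.stalkFunctor Ab x).map (Scheme.Modules.Hom.mapPresheaf u)) ∧
      FlatMod.IsFlatOverAt f (cokernel u) x} := by
  classical
  haveI := QCoh.isQuasicoherent_cokernel u
  rw [isOpen_iff_forall_mem_open]
  rintro x ⟨hinj, hflat⟩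
  let W : X.Opens := ⟨_, isOpen_flatLocus f (cokernel u) (isFP_cokernel u hF hF')⟩
  obtain ⟨V, hV, hxV, -⟩ :=
    exists_isAffineOpen_mem_and_subset (show f.base x ∈ (⊤ : Y.Opens) from trivial)
  obtain ⟨U, hU, hxU, e'⟩ := exists_isAffineOpen_mem_and_subset
    (show x ∈ W ⊓ f ⁻¹ᵁ V from ⟨hflat, hxV⟩)
  have e : U ≤ f ⁻¹ᵁ V := fun z hz => (e' hz).2
  letI : Algebra Γ(Y, V) Γ(X, U) := (f.appLE V U e).hom.toAlgebra
  letI : Module Γ(Y, V) Γ(cokernel u, U) := Module.compHom _ (algebraMap Γ(Y, V) Γ(X, U))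
  haveI : IsScalarTower Γ(Y, V) Γ(X, U) Γ(cokernel u, U) :=
    IsScalarTower.of_algebraMap_smul fun _ _ => rfl
  haveI : Algebra.FinitePresentation Γ(Y, V) Γ(X, U) :=
    HasRingHomProperty.appLE @LocallyOfFinitePresentation f ‹_› ⟨V, hV⟩ ⟨U, hU⟩ e
  haveI := finitePresentation_sections F hF hU
  haveI := finitePresentation_sections F' hF' hU
  haveI := finitePresentation_cokernel_sections u hF hF' hU
  obtain ⟨hex, hsurj⟩ := exact_cokernel_sections u hU
  obtain ⟨k, hk0, hk⟩ := exists_fg_ker_away (A := Γ(Y, V)) (QCoh.appLinear u U)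
    (QCoh.appLinear (cokernel.π u) U) hex hsurj 1 fun q hq _ => by
      obtain ⟨y, hy, hyq⟩ := AssPts.exists_point hU q hq
      exact flat_localized_prime_congr hyq
        ((isFlatOverAt_iff f (cokernel u) hV hU e hy rfl).mp (e' hy).1)
  choose t ht htz using fun z : k => (injective_stalkMap_iff u hU hxU).mp hinj z.1 (hk0 z.1 z.2)
  let c : Γ(X, U) := ∏ z, t z
  have hc : c ∉ WeakAss.primeAt x hxU := fun h => by
    obtain ⟨i, -, hi⟩ := (Ideal.IsPrime.prod_mem_iff (p := WeakAss.primeAt x hxU)).mp h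
    exact ht i hi
  refine ⟨X.basicOpen c, fun y hy => ?_, (X.basicOpen c).2, WeakAss.notMem_primeAt_iff.mp hc⟩
  have hyU : y ∈ U := X.basicOpen_le c hy
  refine ⟨(injective_stalkMap_iff u hU hyU).mpr fun z hz => ⟨c, WeakAss.notMem_primeAt_iff.mpr hy, ?_⟩,
    (e' hyU).1⟩
  obtain ⟨n, hn⟩ := hk z hz
  rw [one_pow, one_smul] at hn
  clear hz
  induction hn using Submodule.span_induction with
  | mem w hw =>
    obtain ⟨r, hr⟩ := Finset.dvd_prod_of_mem t (Finset.mem_univ (⟨w, hw⟩ : k))
    show c • w = 0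
    rw [show c = t ⟨w, hw⟩ * r from hr, mul_comm, mul_smul, htz ⟨w, hw⟩, smul_zero]
  | zero => exact smul_zero _
  | add a b _ _ ha hb => rw [smul_add, ha, hb, add_zero]
  | smul r a _ ha => rw [smul_comm, ha, smul_zero]

end GrothLib.FlatFP
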