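import Groth.Agent.Lib.FlatFP.Syzygy
import Mathlib.Algebra.Category.ModuleCat.Projective
import Mathlib.Algebra.Category.ModuleCat.EpiMono
import Mathlib.Algebra.Homology.ShortComplex.ModuleCat
import Mathlib.Algebra.Homology.SingleHomology
import Mathlib.CategoryTheory.Abelian.Projective.Resolution

/-!
# Resolutions of flat finitely presented modules by finite free modules
-/

universe u

open CategoryTheory

namespace GrothLib.FlatFP

variable (A B : Type u) [CommRing A] [CommRing B] [Algebra A B]

/-- An `A`-flat finitely presented `B`-module. -/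
structure FlatFPMod where
  carrier : Type u
  [addCommGroup : AddCommGroup carrier]
  [module : Module B carrier]
  [moduleA : Module A carrier]
  [tower : IsScalarTower A B carrier]
  [fp : Module.FinitePresentation B carrier]
  [flat : Module.Flat A carrier]

attribute [instance] FlatFPMod.addCommGroup FlatFPMod.module FlatFPMod.moduleA FlatFPMod.tower
  FlatFPMod.fp FlatFPMod.flat

variable {A B} [Algebra.FinitePresentation A B]

/-- The rank of the chosen free module over `S`. -/
noncomputable def FlatFPMod.rk (S : FlatFPMod A B) : ℕ := (exists_ker_fp A B S.carrier).choose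

/-- The chosen surjection. -/
noncomputable def FlatFPMod.aug (S : FlatFPMod A B) : (Fin S.rk → B) →ₗ[B] S.carrier :=
  (exists_ker_fp A B S.carrier).choose_spec.choose

theorem FlatFPMod.aug_surjective (S : FlatFPMod A B) : Function.Surjective S.aug :=
  (exists_ker_fp A B S.carrier).choose_spec.choose_spec.1

variable [Module.Flat A B]

/-- The syzygy. -/
noncomputable def FlatFPMod.next (S : FlatFPMod A B) : FlatFPMod A B :=
  haveI : Module.FinitePresentation B (LinearMap.ker S.aug) :=
    (exists_ker_fp A B S.carrier).choose_spec.choose_spec.2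
  haveI : Module.Flat A (Fin S.rk → B) := Module.Flat.trans A B (Fin S.rk → B)
  haveI : Module.Flat A (LinearMap.ker S.aug) :=
    (flat_ker (S.aug.restrictScalars A) S.aug_surjective :)
  { carrier := LinearMap.ker S.aug }

/-- The iterated syzygies. -/
noncomputable def FlatFPMod.syz (S : FlatFPMod A B) : ℕ → FlatFPMod A B
  | 0 => S
  | n + 1 => (S.syz n).next

/-- The inclusion of a syzygy. -/
noncomputable def FlatFPMod.incl (S : FlatFPMod A B) :
    S.next.carrier →ₗ[B] (Fin S.rk → B) :=
  (LinearMap.ker S.aug).subtype

theorem FlatFPMod.incl_injective (S : FlatFPMod A B) : Function.Injective S.incl :=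
  Subtype.val_injective

theorem FlatFPMod.exact_incl_aug (S : FlatFPMod A B) : Function.Exact S.incl S.aug :=
  LinearMap.exact_subtype_ker_map S.aug

/-- The differentials. -/
noncomputable def FlatFPMod.dLin (S : FlatFPMod A B) (i : ℕ) :
    (Fin (S.syz (i + 1)).rk → B) →ₗ[B] (Fin (S.syz i).rk → B) :=
  (S.syz i).incl ∘ₗ (S.syz (i + 1)).aug

theorem FlatFPMod.dLin_comp (S : FlatFPMod A B) (i : ℕ) : S.dLin i ∘ₗ S.dLin (i + 1) = 0 := by
  refine LinearMap.ext fun v => ?_
  show (S.syz i).incl ((S.syz (i + 1)).aug ((S.syz (i + 1)).incl ((S.syz (i + 2)).aug v))) = 0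
  rw [((S.syz (i + 1)).exact_incl_aug).apply_apply_eq_zero]
  exact map_zero (S.syz i).incl

/-- The complex of the resolution. -/
noncomputable def FlatFPMod.complex (S : FlatFPMod A B) : ChainComplex (ModuleCat.{u} B) ℕ :=
  ChainComplex.of (fun i => ModuleCat.of B (Fin (S.syz i).rk → B))
    (fun i => ModuleCat.ofHom (S.dLin i)) fun i => ModuleCat.hom_ext (S.dLin_comp i)

theorem FlatFPMod.complex_d (S : FlatFPMod A B) (i : ℕ) :
    S.complex.d (i + 1) i = ModuleCat.ofHom (S.dLin i) :=
  ChainComplex.of_d (fun i => ModuleCat.of B (Fin (S.syz i).rk → B))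
    (fun i => ModuleCat.ofHom (S.dLin i)) i

theorem FlatFPMod.complex_d_aug (S : FlatFPMod A B) :
    S.complex.d 1 0 ≫ (ModuleCat.ofHom S.aug : ModuleCat.of B (Fin (S.syz 0).rk → B) ⟶ _) = 0 := by
  rw [S.complex_d 0]
  exact ModuleCat.hom_ext (LinearMap.ext fun v => S.exact_incl_aug.apply_apply_eq_zero _)

/-- The resolution by finite free modules. -/
noncomputable def FlatFPMod.resolution (S : FlatFPMod A B) :
    ProjectiveResolution (ModuleCat.of B S.carrier) where
  complex := S.complex
  projective i := (IsProjective.iff_projective _).1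
    (show Module.Projective B (Fin (S.syz i).rk → B) from inferInstance)
  π := (ChainComplex.toSingle₀Equiv _ _).symm ⟨ModuleCat.ofHom S.aug, S.complex_d_aug⟩
  quasiIso := ⟨fun i => by
    cases i with
    | zero =>
      rw [ChainComplex.quasiIsoAt₀_iff, ShortComplex.quasiIso_iff_of_zeros']
      · refine ⟨(ShortComplex.moduleCat_exact_iff _).2 fun v hv => ?_,
          (ModuleCat.epi_iff_surjective _).2 ?_⟩
        · have hv' : S.aug v = 0 := by
            have h := hv
            simp [ChainComplex.toSingle₀Equiv_symm_apply_f_zero] at h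
            exact h
          obtain ⟨w, hw⟩ := (S.exact_incl_aug v).1 hv'
          obtain ⟨w', rfl⟩ := (S.syz 1).aug_surjective w
          refine ⟨w', ?_⟩
          show (S.complex.d 1 0).hom w' = v
          rw [S.complex_d 0]
          exact hw
        · intro x
          obtain ⟨v, hv⟩ := S.aug_surjective x
          refine ⟨v, ?_⟩
          simp [ChainComplex.toSingle₀Equiv_symm_apply_f_zero]
          exact hv
      · exact S.complex.shape _ _ (by simp)
      · rfl
      · rfl
    | succ i =>
      rw [quasiIsoAt_iff_exactAt' _ _ (HomologicalComplex.exactAt_single_obj _ _ _ _ (by simp)),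
        HomologicalComplex.exactAt_iff' _ (i + 1 + 1) (i + 1) i (by simp) (by simp)]
      refine (ShortComplex.moduleCat_exact_iff _).2 fun v hv => ?_
      have hv' : (S.syz (i + 1)).aug v = 0 := (S.syz i).incl_injective <| by
        have h : (S.complex.d (i + 1) i).hom v = 0 := hv
        rw [S.complex_d i] at h
        exact h.trans (map_zero _).symm
      obtain ⟨w, hw⟩ := ((S.syz (i + 1)).exact_incl_aug v).1 hv'
      obtain ⟨w', rfl⟩ := (S.syz (i + 2)).aug_surjective w
      refine ⟨w', ?_⟩
      show (S.complex.d (i + 1 + 1) (i + 1)).hom w' = v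
      rw [S.complex_d (i + 1)]
      exact hw⟩

end GrothLib.FlatFP
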