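import Groth.Agent.Lib.FlatModel.Descent
import Groth.Agent.Lib.FibreFlat.Stage
import Groth.Agent.Lib.Serre.Basic
import Mathlib.RingTheory.Flat.Equalizer

/-!
# Syzygies of flat finitely presented modules are finitely presented (EGA IV 11.3.9)
-/

universe u

namespace GrothLib.FlatFP

open TensorProduct Function MvPolynomial GrothLib.FibreFlat

attribute [local instance] MvPolynomial.algebraMvPolynomial

/-- The kernel of a surjection of flat modules onto a flat module is flat. -/
theorem flat_ker {A F M : Type u} [CommRing A] [AddCommGroup F] [Module A F] [AddCommGroup M]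
    [Module A M] [Module.Flat A F] [Module.Flat A M] (f : F →ₗ[A] M) (hf : Surjective f) :
    Module.Flat A (LinearMap.ker f) := by
  rw [Module.Flat.iff_rTensor_preserves_injective_linearMap]
  intro N N' _ _ _ _ φ hφ
  let K := LinearMap.ker f
  have h1 : Injective (K.subtype.lTensor N) :=
    LinearMap.lTensor_injective_of_exact_of_flat f hf K.subtype Subtype.val_injective
      (LinearMap.exact_subtype_ker_map f) N
  have h2 : Injective (φ.rTensor F) := Module.Flat.rTensor_preserves_injective_linearMap φ hφ
  have hc : K.subtype.lTensor N' ∘ₗ φ.rTensor K = φ.rTensor F ∘ₗ K.subtype.lTensor N :=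
    TensorProduct.ext' fun _ _ => rfl
  intro x y hxy
  apply h1
  apply h2
  have := congrArg (K.subtype.lTensor N') hxy
  rwa [← LinearMap.comp_apply, ← LinearMap.comp_apply, hc] at this

/-- Naturality of `T[z] ⊗ M₀ ≅ T ⊗ M₀`. -/
theorem cancel_lTensor {R₀ T : Type u} [CommRing R₀] [CommRing T] [Algebra R₀ T] {m : ℕ}
    {K N : Type u} [AddCommGroup K] [Module (MvPolynomial (Fin m) R₀) K] [Module R₀ K]
    [IsScalarTower R₀ (MvPolynomial (Fin m) R₀) K] [AddCommGroup N]
    [Module (MvPolynomial (Fin m) R₀) N] [Module R₀ N]
    [IsScalarTower R₀ (MvPolynomial (Fin m) R₀) N]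
    (φ : K →ₗ[MvPolynomial (Fin m) R₀] N)
    (x : MvPolynomial (Fin m) T ⊗[MvPolynomial (Fin m) R₀] K) :
    cancel N T (φ.lTensor (MvPolynomial (Fin m) T) x) =
      (φ.restrictScalars R₀).lTensor T (cancel K T x) := by
  obtain ⟨y, rfl⟩ := (cancel (m := m) K T).symm.surjective x
  rw [LinearEquiv.apply_symm_apply]
  induction y using TensorProduct.induction_on with
  | zero => simp
  | add a b ha hb => simp only [map_add, ha, hb]
  | tmul s n =>
    apply (cancel (m := m) N T).symm.injective
    rw [LinearEquiv.symm_apply_apply]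
    simp only [cancel, Algebra.IsPushout.cancelBaseChange_symm_tmul, LinearMap.lTensor_tmul]
    rfl

/-- Finite presentation descends along a surjective ring map. -/
theorem finitePresentation_of_surjective_algebraMap {C B K : Type u} [CommRing C] [CommRing B]
    [Algebra C B] [AddCommGroup K] [Module C K] [Module B K] [IsScalarTower C B K]
    [Module.FinitePresentation C K] (hπ : Surjective (algebraMap C B)) :
    Module.FinitePresentation B K := by
  let φ : B ⊗[C] K →ₗ[B] K := (LinearMap.id : K →ₗ[C] K).liftBaseChange B
  have hφ : Bijective φ := by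
    refine ⟨(injective_iff_map_eq_zero φ).mpr fun x hx => ?_, fun y => ⟨1 ⊗ₜ y, by simp [φ]⟩⟩
    obtain ⟨k, rfl⟩ := TensorProduct.mk_surjective C K B hπ x
    simp [φ] at hx
    simp [hx]
  exact Module.finitePresentation_of_surjective φ hφ.2 (by
    rw [LinearMap.ker_eq_bot.mpr hφ.1]; exact Submodule.fg_bot)

set_option maxHeartbeats 1000000 in
/-- A finitely presented `R`-flat module over a polynomial ring has a presentation with finitely
presented kernel. -/
theorem exists_ker_fp_poly {R : Type u} [CommRing R] {m : ℕ} (M : Type u) [AddCommGroup M]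
    [Module (MvPolynomial (Fin m) R) M] [Module R M] [IsScalarTower R (MvPolynomial (Fin m) R) M]
    [Module.FinitePresentation (MvPolynomial (Fin m) R) M] [Module.Flat R M] :
    ∃ (r : ℕ) (f : (Fin r → MvPolynomial (Fin m) R) →ₗ[MvPolynomial (Fin m) R] M),
      Surjective f ∧ Module.FinitePresentation (MvPolynomial (Fin m) R) (LinearMap.ker f) := by
  classical
  obtain ⟨R₃, _, _, hft, -, N, _, _, _, _, _, _, -, -, ⟨eM⟩⟩ :=
    GrothLib.FlatModel.exists_flat_model (R := R) (m := m) M (q := 0) Fin.elim0 fun j => j.elim0
  haveI : IsNoetherianRing R₃ := Algebra.FiniteType.isNoetherianRing ℤ R₃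
  let C₀ := MvPolynomial (Fin m) R₃
  let C := MvPolynomial (Fin m) R
  obtain ⟨r, f₀, hf₀⟩ := Module.Finite.exists_fin' C₀ N
  let K := LinearMap.ker f₀
  haveI : Module.FinitePresentation C₀ K := Module.finitePresentation_of_finite C₀ K
  have hinj : Injective (K.subtype.lTensor C) := by
    have h1 : Injective ((K.subtype.restrictScalars R₃).lTensor R) :=
      LinearMap.lTensor_injective_of_exact_of_flat (f₀.restrictScalars R₃) hf₀
        (K.subtype.restrictScalars R₃) Subtype.val_injective
        (fun x => LinearMap.exact_subtype_ker_map f₀ x) R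
    intro x y hxy
    apply (cancel (m := m) (R₀ := R₃) K R).injective
    apply h1
    rw [← cancel_lTensor K.subtype, ← cancel_lTensor K.subtype]
    exact congrArg _ hxy
  let e : (Fin r → C) ≃ₗ[C] C ⊗[C₀] (Fin r → C₀) :=
    (TensorProduct.piScalarRight C₀ C C (Fin r)).symm
  let f : (Fin r → C) →ₗ[C] M := eM.toLinearMap ∘ₗ f₀.baseChange C ∘ₗ e.toLinearMap
  refine ⟨r, f, eM.surjective.comp ((LinearMap.lTensor_surjective C hf₀).comp e.surjective), ?_⟩
  haveI : Module.FinitePresentation C (LinearMap.ker (f₀.baseChange C)) :=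
    @Module.FinitePresentation.of_equiv C (C ⊗[C₀] K) (LinearMap.ker (f₀.baseChange C)) _ _ _ _ _
      (GrothLib.Serre.kerBaseChangeEquiv C f₀ hf₀ hinj) inferInstance
  have hmap : LinearMap.ker f = (LinearMap.ker (f₀.baseChange C)).map e.symm.toLinearMap := by
    ext x
    simp [f, Submodule.mem_map_equiv]
  exact Module.FinitePresentation.of_equiv (R := C) (M := LinearMap.ker (f₀.baseChange C))
    ((e.symm.submoduleMap _).trans (LinearEquiv.ofEq _ _ hmap.symm))

set_option maxHeartbeats 1000000 in
/-- **Syzygies of flat finitely presented modules are finitely presented.** -/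
theorem exists_ker_fp (A B M : Type u) [CommRing A] [CommRing B] [Algebra A B]
    [Algebra.FinitePresentation A B] [AddCommGroup M] [Module B M] [Module A M]
    [IsScalarTower A B M] [Module.FinitePresentation B M] [Module.Flat A M] :
    ∃ (r : ℕ) (f : (Fin r → B) →ₗ[B] M), Surjective f ∧
      Module.FinitePresentation B (LinearMap.ker f) := by
  classical
  obtain ⟨m, π, hπ, hker⟩ := ‹Algebra.FinitePresentation A B›.out
  let C := MvPolynomial (Fin m) A
  letI : Algebra C B := π.toRingHom.toAlgebra
  haveI : IsScalarTower A C B := IsScalarTower.of_algebraMap_eq fun r => (π.commutes r).symm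
  letI : Module C M := Module.compHom M (algebraMap C B)
  haveI : IsScalarTower C B M := IsScalarTower.of_algebraMap_smul fun _ _ => rfl
  haveI : IsScalarTower A C M := IsScalarTower.of_algebraMap_smul fun r x => by
    show π (algebraMap A C r) • x = r • x
    rw [π.commutes, algebraMap_smul]
  haveI : Module.FinitePresentation C B := Module.finitePresentation_of_surjective
    (Algebra.linearMap C B) hπ hker
  haveI : Module.FinitePresentation C M := Module.FinitePresentation.trans C M B
  obtain ⟨r, f, hf, hK⟩ := exists_ker_fp_poly (R := A) (m := m) M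
  let m' : Fin r → M := fun i => f (Pi.single i 1)
  let fB : (Fin r → B) →ₗ[B] M := Fintype.linearCombination B m'
  let ρ₀ : (Fin r → C) →ₗ[C] (Fin r → B) := (Algebra.linearMap C B).compLeft (Fin r)
  have hρ₀ : Surjective ρ₀ := fun v =>
    ⟨fun i => (hπ (v i)).choose, funext fun i => (hπ (v i)).choose_spec⟩
  have hcomp : ∀ v, fB (ρ₀ v) = f v := by
    intro v
    conv_rhs => rw [pi_eq_sum_univ v, map_sum]
    simp only [fB, ρ₀, Fintype.linearCombination_apply]
    refine Finset.sum_congr rfl fun i _ => ?_
    rw [map_smul]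
    show algebraMap C B (v i) • m' i = _
    rw [algebraMap_smul]
    congr 1
    exact congrArg f (funext fun j => by simp [Pi.single_apply, eq_comm])
  have hfB : Surjective fB := fun x => by
    obtain ⟨v, rfl⟩ := hf x
    exact ⟨ρ₀ v, hcomp v⟩
  refine ⟨r, fB, hfB, ?_⟩
  let KB : Submodule C (Fin r → B) := (LinearMap.ker fB).restrictScalars C
  let ρ : LinearMap.ker f →ₗ[C] KB := ρ₀.restrict fun v hv => by
    show fB (ρ₀ v) = 0
    rw [hcomp]
    exact hv
  have hρ : Surjective ρ := fun ⟨v, hv⟩ => by
    obtain ⟨w, rfl⟩ := hρ₀ v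
    exact ⟨⟨w, (hcomp w).symm.trans hv⟩, rfl⟩
  have hfg : (LinearMap.ker ρ).FG := by
    refine Submodule.fg_of_fg_map_injective (LinearMap.ker f).subtype Subtype.val_injective ?_
    have : (LinearMap.ker ρ).map (LinearMap.ker f).subtype = LinearMap.ker ρ₀ := by
      ext v
      constructor
      · rintro ⟨w, hw, rfl⟩
        exact congrArg Subtype.val (LinearMap.mem_ker.mp hw)
      · intro hv
        refine ⟨⟨v, ?_⟩, LinearMap.mem_ker.mpr (Subtype.ext (LinearMap.mem_ker.mp hv)), rfl⟩
        rw [LinearMap.mem_ker, ← hcomp, LinearMap.mem_ker.mp hv, map_zero]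
    rw [this]
    exact Module.FinitePresentation.fg_ker ρ₀ hρ₀
  haveI : Module.FinitePresentation C KB := Module.finitePresentation_of_surjective ρ hρ hfg
  haveI : Module.FinitePresentation C (LinearMap.ker fB) :=
    Module.FinitePresentation.of_equiv (M := KB)
      (AddEquiv.toLinearEquiv { toFun := fun x => (⟨x.1, x.2⟩ : LinearMap.ker fB)
                                invFun := fun x => ⟨x.1, x.2⟩
                                left_inv := fun _ => rfl
                                right_inv := fun _ => rfl
                                map_add' := fun _ _ => rfl } fun _ _ => rfl)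
  exact finitePresentation_of_surjective_algebraMap (C := C) (B := B) hπ

end GrothLib.FlatFP
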