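import Groth.Agent.Lib.FlatFP.PullbackFlat
import Groth.Agent.Lib.FlatLimit.Geometric
import Groth.Agent.Lib.FlatModel.Descent
import Groth.Agent.Lib.FittSheaf.Pullback
import Mathlib.RingTheory.Flat.Stability

/-!
# Base change of flatness over the base at a point
-/

set_option autoImplicit false
set_option backward.isDefEq.respectTransparency false
set_option linter.style.haveILetI false

universe u

open CategoryTheory AlgebraicGeometry TensorProduct

namespace GrothLib.FlatFP

theorem flat_pushout_localized {A A' B B' M : Type u} [CommRing A] [CommRing A'] [CommRing B] [CommRing B']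
    [Algebra A A'] [Algebra A B] [Algebra A' B'] [Algebra B B'] [Algebra A B'] [IsScalarTower A A' B']
    [IsScalarTower A B B'] [Algebra.IsPushout A A' B B'] [SMulCommClass B A' B']
    [AddCommGroup M] [Module B M] [Module A M] [IsScalarTower A B M] (p : Ideal B) [p.IsPrime] (p' : Ideal B') [p'.IsPrime]
    (hp : p = p'.comap (algebraMap B B')) (hf : Module.Flat A (LocalizedModule p.primeCompl M)) :
    Module.Flat A' (LocalizedModule p'.primeCompl (B' ⊗[B] M)) := by
  let Mp := LocalizedModule p.primeCompl M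
  haveI : Module.Flat A' (A' ⊗[A] Mp) := Module.Flat.baseChange A A' Mp
  haveI : Module.Flat A' (B' ⊗[B] Mp) :=
    Module.Flat.of_linearEquiv (Algebra.IsPushout.cancelBaseChange A A' B B' Mp)
  haveI : IsScalarTower A' B' (B' ⊗[B] Mp) := TensorProduct.isScalarTower_left
  haveI : IsScalarTower A' B' (B' ⊗[B] M) := TensorProduct.isScalarTower_left
  haveI : Module.Flat A' (LocalizedModule p'.primeCompl (B' ⊗[B] Mp)) := FlatModel.flat_localizedModule _
  let L₁ := LocalizedModule p'.primeCompl (B' ⊗[B] M)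
  let mk₁ := LocalizedModule.mkLinearMap p'.primeCompl (B' ⊗[B] M)
  let r : M →ₗ[B] L₁ := (mk₁.restrictScalars B).comp (TensorProduct.mk B B' M 1)
  have hr : ∀ c : p.primeCompl, IsUnit (algebraMap B (Module.End B L₁) c.1) := fun c => by
    have hc : algebraMap B B' c.1 ∈ p'.primeCompl := fun h => c.2 (hp ▸ h)
    have := (Module.End.isUnit_iff _).mp (IsLocalizedModule.map_units (f := mk₁) ⟨_, hc⟩)
    refine (Module.End.isUnit_iff _).mpr ?_
    convert this using 1
    funext x
    exact (algebraMap_smul B' c.1 x).symm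
  let ρ : Mp →ₗ[B] L₁ := LocalizedModule.lift p.primeCompl r hr
  let π : B' ⊗[B] Mp →ₗ[B'] L₁ := ρ.liftBaseChange B'
  let Ψ : LocalizedModule p'.primeCompl (B' ⊗[B] Mp) →ₗ[B'] L₁ :=
    LocalizedModule.lift p'.primeCompl π (fun c => IsLocalizedModule.map_units (f := mk₁) c)
  let Φ : L₁ →ₗ[B'] LocalizedModule p'.primeCompl (B' ⊗[B] Mp) :=
    IsLocalizedModule.map p'.primeCompl mk₁ (LocalizedModule.mkLinearMap p'.primeCompl _)
      ((LocalizedModule.mkLinearMap p.primeCompl M).baseChange B')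
  have hΨΦ : Ψ.comp Φ = LinearMap.id := by
    refine IsLocalizedModule.ext p'.primeCompl mk₁ (fun c => IsLocalizedModule.map_units (f := mk₁) c) ?_
    refine TensorProduct.AlgebraTensorModule.ext fun b m => ?_
    change Ψ (Φ (mk₁ (b ⊗ₜ[B] m))) = mk₁ (b ⊗ₜ[B] m)
    rw [show Φ (mk₁ (b ⊗ₜ[B] m)) = LocalizedModule.mkLinearMap p'.primeCompl (B' ⊗[B] Mp)
        (b ⊗ₜ[B] LocalizedModule.mkLinearMap p.primeCompl M m) from IsLocalizedModule.map_apply _ _ _ _ _]
    change LocalizedModule.lift p'.primeCompl π _ (LocalizedModule.mk (b ⊗ₜ[B] LocalizedModule.mk m 1) 1) = _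
    rw [LocalizedModule.lift_mk_one]
    change b • LocalizedModule.lift p.primeCompl r hr (LocalizedModule.mk m 1) = _
    rw [LocalizedModule.lift_mk_one]
    change b • mk₁ ((1 : B') ⊗ₜ[B] m) = _
    rw [← map_smul, TensorProduct.smul_tmul', smul_eq_mul, mul_one]
  exact Module.Flat.of_retract (Φ.restrictScalars A') (Ψ.restrictScalars A')
    (LinearMap.ext fun x => DFunLike.congr_fun hΨΦ x)

theorem isFlatOverAt_baseChange {X S X' S' : Scheme.{u}} (f : X ⟶ S) (f' : X' ⟶ S') (g' : X' ⟶ X) (g : S' ⟶ S)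
    (hc : IsPullback g' f' f g) (F : X.Modules) [F.IsQuasicoherent] (x' : X')
    (h : FlatMod.IsFlatOverAt f F (g' x')) :
    FlatMod.IsFlatOverAt f' ((Scheme.Modules.pullback g').obj F) x' := by
  obtain ⟨W, hW, hsW, -⟩ :=
    exists_isAffineOpen_mem_and_subset (show f (g' x') ∈ (⊤ : S.Opens) from trivial)
  obtain ⟨U, hU, hxU, eU⟩ := exists_isAffineOpen_mem_and_subset (show g' x' ∈ f ⁻¹ᵁ W from hsW)
  have hxg : f' x' ∈ g ⁻¹ᵁ W := by
    show g (f' x') ∈ W
    rw [← Scheme.Hom.comp_apply, ← hc.w]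
    exact hsW
  obtain ⟨W', hW', hxW', eV⟩ := exists_isAffineOpen_mem_and_subset hxg
  let P := g' ⁻¹ᵁ U ⊓ f' ⁻¹ᵁ W'
  have hP : IsAffineOpen P := FlatLimit.isAffineOpen_square hc eV eU hW hW' hU
  have hxP : x' ∈ P := ⟨hxU, hxW'⟩
  let A := Γ(S, W)
  let B := Γ(X, U)
  letI : Algebra A B := (f.appLE W U eU).hom.toAlgebra
  letI : Algebra A Γ(S', W') := (g.appLE W W' eV).hom.toAlgebra
  letI : Algebra Γ(S', W') Γ(X', P) := (f'.appLE W' P inf_le_right).hom.toAlgebra
  letI : Algebra B Γ(X', P) := (g'.appLE U P inf_le_left).hom.toAlgebra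
  letI : Algebra A Γ(X', P) := ((algebraMap B Γ(X', P)).comp (algebraMap A B)).toAlgebra
  haveI : IsScalarTower A B Γ(X', P) := IsScalarTower.of_algebraMap_eq' rfl
  haveI : IsScalarTower A Γ(S', W') Γ(X', P) := IsScalarTower.of_algebraMap_eq' (by
    show (g'.appLE U P _).hom.comp (f.appLE W U _).hom =
      (f'.appLE W' P _).hom.comp (g.appLE W W' _).hom
    rw [← CommRingCat.hom_comp, ← CommRingCat.hom_comp, Scheme.Hom.appLE_comp_appLE,
      Scheme.Hom.appLE_comp_appLE]
    simp only [hc.w])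
  haveI : Algebra.IsPushout A Γ(S', W') B Γ(X', P) :=
    FlatLimit.isPushout_square hc eV eU hW hW' hU rfl rfl rfl rfl
  letI : Module A Γ(F, U) := Module.compHom _ (algebraMap A B)
  haveI : IsScalarTower A B Γ(F, U) := IsScalarTower.of_algebraMap_smul fun _ _ => rfl
  haveI : SMulCommClass B Γ(S', W') Γ(X', P) := ⟨fun a b x => by
    rw [Algebra.smul_def, Algebra.smul_def, Algebra.smul_def, Algebra.smul_def, mul_left_comm]⟩
  refine (isFlatOverAt_pullback_iff f' g' F hU hW' hP inf_le_left inf_le_right hxP rfl rfl).mpr ?_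
  exact flat_pushout_localized (WeakAss.primeAt (g' x') hxU) (WeakAss.primeAt x' hxP)
    (AssPts.comap_primeAt g' (inf_le_left : P ≤ g' ⁻¹ᵁ U) hxP).symm
    ((isFlatOverAt_iff f F hW hU eU hxU rfl).mp h)

end GrothLib.FlatFP
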