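import Groth.Agent.Lib.Flatness.Tor
import Mathlib.Algebra.Homology.HomologySequence
import Mathlib.Algebra.Homology.HomologicalComplexAbelian
import Mathlib.Algebra.Category.ModuleCat.Monoidal.Closed
import Mathlib.CategoryTheory.Abelian.LeftDerived
import Mathlib.RingTheory.Flat.Basic

/-!
# Dimension shifting for `Tor` in the first variable
-/

universe u

open CategoryTheory MonoidalCategory TensorProduct

namespace GrothLib.FlatFP

variable {R : Type u} [CommRing R]

/-- The functor `X ⊗ -`. -/
noncomputable abbrev tensorL (X : ModuleCat.{u} R) : ModuleCat.{u} R ⥤ ModuleCat.{u} R :=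
  (tensoringLeft (ModuleCat.{u} R)).obj X

/-- The complex computing `Tor _ X N`. -/
noncomputable abbrev torCx (X N : ModuleCat.{u} R) : ChainComplex (ModuleCat.{u} R) ℕ :=
  ((tensorL X).mapHomologicalComplex (ComplexShape.down ℕ)).obj (projectiveResolution N).complex

theorem isZero_tor_iff (X N : ModuleCat.{u} R) (i : ℕ) :
    Limits.IsZero (((Tor (ModuleCat.{u} R) i).obj X).obj N) ↔
      Limits.IsZero ((torCx X N).homology i) :=
  ((projectiveResolution N).isoLeftDerivedObj (tensorL X) i).isZero_iff

theorem isZero_torCx_homology_of_flat (X N : ModuleCat.{u} R) [Module.Flat R X] (i : ℕ) :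
    Limits.IsZero ((torCx X N).homology (i + 1)) := by
  let P := projectiveResolution N
  rw [← HomologicalComplex.exactAt_iff_isZero_homology,
    HomologicalComplex.exactAt_iff' _ (i + 2) (i + 1) i (by simp) (by simp),
    ShortComplex.moduleCat_exact_iff]
  let d₂ : P.complex.X (i + 2) →ₗ[R] P.complex.X (i + 1) := (P.complex.d (i + 2) (i + 1)).hom
  let d₁ : P.complex.X (i + 1) →ₗ[R] P.complex.X i := (P.complex.d (i + 1) i).hom
  have hdd : Function.Exact d₂ d₁ := fun x => ⟨fun hx => by
    have h1 := P.complex_exactAt_succ i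
    rw [HomologicalComplex.exactAt_iff' _ (i + 2) (i + 1) i (by simp) (by simp),
      ShortComplex.moduleCat_exact_iff] at h1
    exact h1 x hx, by
    rintro ⟨y, rfl⟩
    exact congrArg (fun f => f.hom y) (P.complex.d_comp_d (i + 2) (i + 1) i)⟩
  change ∀ x : X ⊗[R] P.complex.X (i + 1), d₁.lTensor X x = 0 →
    ∃ y : X ⊗[R] P.complex.X (i + 2), d₂.lTensor X y = x
  exact fun x hx => (Module.Flat.lTensor_exact X hdd x).mp hx

/-- The map of complexes induced by a map in the first variable. -/
noncomputable abbrev torCxMap {X Y : ModuleCat.{u} R} (f : X ⟶ Y) (N : ModuleCat.{u} R) :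
    torCx X N ⟶ torCx Y N :=
  (NatTrans.mapHomologicalComplex ((tensoringLeft (ModuleCat.{u} R)).map f)
    (ComplexShape.down ℕ)).app (projectiveResolution N).complex

/-- The short complex of complexes. -/
noncomputable def torSeq (S : ShortComplex (ModuleCat.{u} R)) (N : ModuleCat.{u} R) :
    ShortComplex (ChainComplex (ModuleCat.{u} R) ℕ) :=
  ShortComplex.mk (torCxMap S.f N) (torCxMap S.g N) (by
    apply HomologicalComplex.hom_ext
    intro i
    apply ModuleCat.hom_ext
    refine TensorProduct.ext' fun x y => ?_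
    show (S.g.hom (S.f.hom x)) ⊗ₜ[R] y = 0
    rw [show S.g.hom (S.f.hom x) = (S.f ≫ S.g).hom x from rfl, S.zero]
    exact zero_tmul _ y)

theorem torSeq_shortExact (S : ShortComplex (ModuleCat.{u} R)) (hS : S.ShortExact)
    (N : ModuleCat.{u} R) : (torSeq S N).ShortExact := by
  refine HomologicalComplex.shortExact_of_degreewise_shortExact _ fun i => ?_
  let Q := (projectiveResolution N).complex.X i
  haveI : Module.Projective R Q :=
    (IsProjective.iff_projective _).2 ((projectiveResolution N).projective i)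
  have hf : Function.Injective S.f.hom := (ModuleCat.mono_iff_injective _).1 hS.mono_f
  have hg : Function.Surjective S.g.hom := (ModuleCat.epi_iff_surjective _).1 hS.epi_g
  have hex : Function.Exact S.f.hom S.g.hom := fun x =>
    ⟨fun hx => (ShortComplex.moduleCat_exact_iff _).1 hS.exact x hx, fun ⟨y, hy⟩ => by
      rw [← hy]; exact congrArg (fun φ => φ.hom y) S.zero⟩
  exact
    { exact := (ShortComplex.moduleCat_exact_iff _).2 fun x hx =>
        (rTensor_exact Q hex hg x).mp hx
      mono_f := (ModuleCat.mono_iff_injective _).2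
        (Module.Flat.rTensor_preserves_injective_linearMap (M := Q) S.f.hom hf)
      epi_g := (ModuleCat.epi_iff_surjective _).2 (LinearMap.rTensor_surjective Q hg) }

/-- `Tor_{i+2}(M, N) = 0` iff `Tor_{i+1}(K, N) = 0` for `0 → K → F → M → 0` with `F` flat. -/
theorem isZero_tor_succ_iff (S : ShortComplex (ModuleCat.{u} R)) (hS : S.ShortExact)
    [Module.Flat R S.X₂] (N : ModuleCat.{u} R) (i : ℕ) :
    Limits.IsZero (((Tor (ModuleCat.{u} R) (i + 2)).obj S.X₃).obj N) ↔
      Limits.IsZero (((Tor (ModuleCat.{u} R) (i + 1)).obj S.X₁).obj N) := by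
  rw [isZero_tor_iff, isZero_tor_iff]
  exact ((torSeq_shortExact S hS N).δIso (i + 2) (i + 1) (by simp)
    (isZero_torCx_homology_of_flat S.X₂ N (i + 1))
    (isZero_torCx_homology_of_flat S.X₂ N i)).isZero_iff

theorem isZero_tor_succ_of_flat (X N : ModuleCat.{u} R) [Module.Flat R X] (i : ℕ) :
    Limits.IsZero (((Tor (ModuleCat.{u} R) (i + 1)).obj X).obj N) :=
  (isZero_tor_iff X N (i + 1)).2 (isZero_torCx_homology_of_flat X N i)

theorem forall_isZero_tor_one_iff_flat (X : ModuleCat.{u} R) :
    (∀ N : ModuleCat.{u} R, Limits.IsZero (((Tor (ModuleCat.{u} R) 1).obj X).obj N)) ↔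
      Module.Flat R X :=
  ⟨fun h => GrothLib.Flatness.flat_of_good fun I _ =>
      (GrothLib.Flatness.isZero_tor_one_iff_good R X (R ⧸ I)).1 (h (ModuleCat.of R (R ⧸ I))),
    fun _ N => isZero_tor_succ_of_flat X N 0⟩

theorem forall_isZero_tor_zero_iff (X : ModuleCat.{u} R) :
    (∀ N : ModuleCat.{u} R, Limits.IsZero (((Tor (ModuleCat.{u} R) 0).obj X).obj N)) ↔
      Subsingleton X := by
  constructor
  · intro h
    have := ((Functor.leftDerivedZeroIsoSelf (tensorL X)).app (ModuleCat.of R R)).isZero_iff.1
      (h (ModuleCat.of R R))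
    haveI : Subsingleton (X ⊗[R] R) := ModuleCat.isZero_iff_subsingleton.1 this
    exact (TensorProduct.rid R X).symm.toEquiv.subsingleton
  · intro h N
    refine ((Functor.leftDerivedZeroIsoSelf (tensorL X)).app N).isZero_iff.2 ?_
    refine ModuleCat.isZero_iff_subsingleton.2 ?_
    show Subsingleton (X ⊗[R] N)
    refine subsingleton_of_forall_eq 0 fun x => ?_
    induction x using TensorProduct.induction_on with
    | zero => rfl
    | add a b ha hb => rw [ha, hb, add_zero]
    | tmul a b => rw [Subsingleton.elim a 0, zero_tmul]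

end GrothLib.FlatFP
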