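import Groth.Agent.Lib.FibreFlat.UnivRegular
import Groth.Agent.Lib.FlatFP.PullbackFlat
import Groth.Agent.Lib.FlatLimit.Geometric
import Groth.Agent.Lib.FittSheaf.Pullback
import Groth.Agent.Lib.QCoh.Affine
import Mathlib.AlgebraicGeometry.Fiber

/-!
# Universal injectivity of restrictions of flat modules (EGA IV 11.10.10)
-/

set_option autoImplicit false
set_option backward.isDefEq.respectTransparency false
set_option linter.style.haveILetI false
universe u

open CategoryTheory CategoryTheory.Limits AlgebraicGeometry Opposite TopologicalSpace TensorProduct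

namespace GrothLib.FlatFP

variable {X S : Scheme.{u}} (f : X ⟶ S) [LocallyOfFinitePresentation f] (F : X.Modules)
  [F.IsQuasicoherent] (hF : CohB1.IsFP F) (U : X.Opens)

/-- The ideal of functions on `V` vanishing outside `U`. -/
noncomputable def vanishIdeal (V : X.Opens) : Ideal Γ(X, V) :=
  ⨅ y : {y : X // y ∈ V ∧ y ∉ U}, WeakAss.primeAt y.1 y.2.1

theorem mem_vanishIdeal_iff {V : X.Opens} {g : Γ(X, V)} :
    g ∈ vanishIdeal U V ↔ X.basicOpen g ≤ U := by
  rw [vanishIdeal, Submodule.mem_iInf]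
  constructor
  · intro h y hy
    by_contra hyU
    exact WeakAss.notMem_primeAt_iff.mpr hy (h ⟨y, X.basicOpen_le g hy, hyU⟩)
  · intro h y
    by_contra hy
    exact y.2.2 (h (WeakAss.notMem_primeAt_iff.mp hy))

/-- The kernel of a map to a field is the prime of the image point. -/
theorem ker_appLE_of_isField {T : Scheme.{u}} (φ : T ⟶ S) {W : S.Opens} {T' : T.Opens}
    (e : T' ≤ φ ⁻¹ᵁ W) (hK : IsField Γ(T, T')) {y : T} (hy : y ∈ T') :
    RingHom.ker (φ.appLE W T' e).hom = WeakAss.primeAt (φ y) (e hy) := by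
  letI := hK.toField
  rw [← AssPts.comap_primeAt φ e hy, RingHom.ker_eq_comap_bot]
  congr 1
  exact ((Ideal.eq_bot_or_top (WeakAss.primeAt y hy)).resolve_right
    (inferInstance : (WeakAss.primeAt y hy).IsPrime).ne_top).symm

include hF in
set_option maxHeartbeats 2000000 in
/-- **A section regular on the fibre, from injectivity of the restriction on the fibre.** -/
theorem exists_regular_fibre {T : Scheme.{u}} {Xs : Scheme.{u}} {ι : Xs ⟶ X} {π : Xs ⟶ T}
    {φ : T ⟶ S} (hsq : IsPullback ι π f φ) {T' : T.Opens} (hT' : IsAffineOpen T')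
    (hK : IsField Γ(T, T')) {W : S.Opens} (hW : IsAffineOpen W) {Vx : X.Opens} (hVx : IsAffineOpen Vx)
    (eU : Vx ≤ f ⁻¹ᵁ W) (eT : T' ≤ φ ⁻¹ᵁ W)
    (h : ∀ V : Xs.Opens, Function.Injective (((Scheme.Modules.pullback ι).obj F).presheaf.map
      (homOfLE (inf_le_left : V ⊓ ι ⁻¹ᵁ U ≤ V)).op)) :
    letI : Algebra Γ(X, Vx) Γ(Xs, ι ⁻¹ᵁ Vx ⊓ π ⁻¹ᵁ T') := (ι.appLE Vx _ inf_le_left).hom.toAlgebra
    ∃ g ∈ vanishIdeal U Vx, ∀ z : Γ(Xs, ι ⁻¹ᵁ Vx ⊓ π ⁻¹ᵁ T') ⊗[Γ(X, Vx)] Γ(F, Vx),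
      algebraMap Γ(X, Vx) Γ(Xs, ι ⁻¹ᵁ Vx ⊓ π ⁻¹ᵁ T') g • z = 0 → z = 0 := by
  classical
  let P := ι ⁻¹ᵁ Vx ⊓ π ⁻¹ᵁ T'
  have hP : IsAffineOpen P := FlatLimit.isAffineOpen_square hsq eT eU hW hT' hVx
  letI : Algebra Γ(X, Vx) Γ(Xs, P) := (ι.appLE Vx _ inf_le_left).hom.toAlgebra
  letI := hK.toField
  haveI : LocallyOfFiniteType π :=
    MorphismProperty.of_isPullback (P := @LocallyOfFiniteType) hsq inferInstance
  haveI : IsNoetherianRing Γ(Xs, P) := by
    letI : Algebra Γ(T, T') Γ(Xs, P) := (π.appLE T' P inf_le_right).hom.toAlgebra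
    haveI : Algebra.FiniteType Γ(T, T') Γ(Xs, P) :=
      HasRingHomProperty.appLE @LocallyOfFiniteType π ‹_› ⟨T', hT'⟩ ⟨P, hP⟩ inf_le_right
    exact Algebra.FiniteType.isNoetherianRing Γ(T, T') Γ(Xs, P)
  haveI := finitePresentation_sections F hF hVx
  haveI : ((Scheme.Modules.pullback ι).obj F).IsQuasicoherent :=
    FittSheaf.isQuasicoherent_pullback ι F
  let Fs := (Scheme.Modules.pullback ι).obj F
  refine FibreFlat.exists_regular_of_torsion (B' := Γ(Xs, P))
    (N := Γ(Xs, P) ⊗[Γ(X, Vx)] Γ(F, Vx)) (vanishIdeal U Vx) fun z hz => ?_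
  -- it suffices to kill `z` away from every prime
  let a : Ideal Γ(Xs, P) := Submodule.colon (⊥ : Submodule Γ(Xs, P) _) {z}
  suffices a = ⊤ by
    have h1 : (1 : Γ(Xs, P)) ∈ a := this ▸ Submodule.mem_top
    simpa [a, Submodule.mem_colon_singleton] using h1
  by_contra hne
  obtain ⟨Q, hQ, haQ⟩ := Ideal.exists_le_maximal a hne
  obtain ⟨ξ, hξ, rfl⟩ := AssPts.exists_point hP Q hQ.isPrime
  letI : Module Γ(Xs, P) (Fs.presheaf.stalk ξ) :=
    Module.compHom _ (Xs.presheaf.germ P ξ hξ).hom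
  obtain ⟨loc, hloc⟩ := exists_isLocalizedModule_pullback ι F hVx hP inf_le_left hξ rfl
  suffices loc z = 0 by
    obtain ⟨c, hc⟩ := (IsLocalizedModule.eq_zero_iff (WeakAss.primeAt ξ hξ).primeCompl loc).mp this
    exact c.2 (haQ (Submodule.mem_colon_singleton.mpr ((Submodule.mem_bot _).mpr hc)))
  obtain ⟨gl, hgl, hgl'⟩ := isLocalizedModule_germ Fs hP hξ
  obtain ⟨⟨σ, c⟩, hσ⟩ := IsLocalizedModule.surj (WeakAss.primeAt ξ hξ).primeCompl gl (loc z)
  let I' := (vanishIdeal U Vx).map (algebraMap Γ(X, Vx) Γ(Xs, P))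
  have hI' : ∀ b ∈ I', b • z = 0 := fun b hb => by
    induction hb using Submodule.span_induction with
    | mem x hx =>
      obtain ⟨g, hg, rfl⟩ := hx
      exact hz g hg
    | zero => exact zero_smul _ _
    | add x y _ _ hx hy => rw [add_smul, hx, hy, add_zero]
    | smul r x _ hx => rw [smul_eq_mul, mul_smul, hx, smul_zero]
  obtain ⟨s, hs⟩ := (IsNoetherian.noetherian I' : I'.FG)
  have hkill : ∀ b : s, ∃ d : (WeakAss.primeAt ξ hξ).primeCompl, d • ((b : Γ(Xs, P)) • σ) = 0 :=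
    fun b => (IsLocalizedModule.eq_zero_iff (WeakAss.primeAt ξ hξ).primeCompl gl).mp (by
      rw [map_smul, ← hσ, smul_comm, ← map_smul loc,
        hI' _ (hs ▸ Submodule.subset_span b.2), map_zero, smul_zero])
  choose d hd using hkill
  let σ' : Γ(Fs, P) := (((∏ b, d b : (WeakAss.primeAt ξ hξ).primeCompl)) : Γ(Xs, P)) • σ
  have hσ' : ∀ b ∈ I', b • σ' = 0 := by
    intro b hb
    rw [← hs] at hb
    induction hb using Submodule.span_induction with
    | mem x hx =>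
      obtain ⟨r, hr⟩ := Finset.dvd_prod_of_mem d (Finset.mem_univ (⟨x, hx⟩ : s))
      have h1 := hd ⟨x, hx⟩
      rw [Submonoid.smul_def] at h1
      show x • ((((∏ b, d b) : (WeakAss.primeAt ξ hξ).primeCompl) : Γ(Xs, P)) • σ) = 0
      rw [hr, Submonoid.coe_mul, mul_comm, mul_smul, smul_comm, smul_comm x, h1, smul_zero]
    | zero => exact zero_smul _ _
    | add x y _ _ hx hy => rw [add_smul, hx, hy, add_zero]
    | smul r x _ hx => rw [smul_eq_mul, mul_smul, hx, smul_zero]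
  have hσ0 : σ' = 0 := h P (by
    rw [map_zero]
    refine TopCat.Presheaf.section_ext ⟨Fs.presheaf, Fs.isSheaf⟩ _ _ _ fun y hy => ?_
    refine (TopCat.Presheaf.germ_res_apply Fs.presheaf _ y hy σ').trans (Eq.trans ?_ (map_zero _).symm)
    obtain ⟨g, hg, hgy⟩ := hVx.exists_basicOpen_le (V := U) ⟨ι y, hy.2⟩ hy.1.1
    have hu : IsUnit (Xs.presheaf.germ P y hy.1 (algebraMap Γ(X, Vx) Γ(Xs, P) g)) := by
      rw [← Scheme.mem_basicOpen Xs _ y hy.1]
      show y ∈ Xs.basicOpen (ι.appLE Vx P inf_le_left g)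
      rw [Scheme.basicOpen_appLE]
      exact ⟨hy.1, hgy⟩
    refine hu.smul_left_cancel.mp ?_
    rw [smul_zero, ← WeakAss.germ_smul,
      hσ' _ (Ideal.mem_map_of_mem _ ((mem_vanishIdeal_iff U).mpr hg)), map_zero])
  have h2 : gl σ = 0 := (IsLocalizedModule.eq_zero_iff (WeakAss.primeAt ξ hξ).primeCompl gl).mpr
    ⟨∏ b, d b, hσ0⟩
  rw [← hσ] at h2
  exact ((Module.End.isUnit_iff _).mp
    (IsLocalizedModule.map_units (S := (WeakAss.primeAt ξ hξ).primeCompl) gl c)).1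
      (h2.trans (map_zero _).symm)

include hF in
set_option maxHeartbeats 2000000 in
/-- **EGA IV 11.10.10 for a single open.** -/
theorem injective_restrict_of_fibres (hflat : FlatMod.IsFlatOver f F)
    (h : ∀ (s : S) (V : (↑(f.fiber s) : Scheme.{u}).Opens),
      Function.Injective (((Scheme.Modules.pullback (f.fiberι s)).obj F).presheaf.map
        (homOfLE (inf_le_left : V ⊓ (f.fiberι s) ⁻¹ᵁ U ≤ V)).op))
    {X' S' : Scheme.{u}} {p : X' ⟶ X} {f' : X' ⟶ S'} {g : S' ⟶ S} (hsq : IsPullback p f' f g)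
    (V : X'.Opens) :
    Function.Injective (((Scheme.Modules.pullback p).obj F).presheaf.map
      (homOfLE (inf_le_left : V ⊓ p ⁻¹ᵁ U ≤ V)).op) := by
  let F' := (Scheme.Modules.pullback p).obj F
  haveI : F'.IsQuasicoherent := FittSheaf.isQuasicoherent_pullback p F
  rw [injective_iff_map_eq_zero]
  intro t ht
  refine TopCat.Presheaf.section_ext ⟨F'.presheaf, F'.isSheaf⟩ V t 0 fun x hx => ?_
  refine Eq.trans ?_ (map_zero _).symm
  by_cases hxU : p x ∈ U
  · rw [← TopCat.Presheaf.germ_res_apply F'.presheaf (homOfLE (inf_le_left : V ⊓ p ⁻¹ᵁ U ≤ V)) x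
      ⟨hx, hxU⟩ t]
    exact (congrArg (F'.presheaf.germ _ x _) ht).trans (map_zero _)
  obtain ⟨W, hW, hsW, -⟩ :=
    exists_isAffineOpen_mem_and_subset (show f (p x) ∈ (⊤ : S.Opens) from trivial)
  obtain ⟨Vx, hVx, hxV, eU⟩ := exists_isAffineOpen_mem_and_subset (show p x ∈ f ⁻¹ᵁ W from hsW)
  have hxg : f' x ∈ g ⁻¹ᵁ W := by
    show g (f' x) ∈ W
    rw [← Scheme.Hom.comp_apply, ← hsq.w]
    exact hsW
  obtain ⟨W', hW', hxW', eV⟩ := exists_isAffineOpen_mem_and_subset hxg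
  let P := p ⁻¹ᵁ Vx ⊓ f' ⁻¹ᵁ W'
  have hP : IsAffineOpen P := FlatLimit.isAffineOpen_square hsq eV eU hW hW' hVx
  have hxP : x ∈ P := ⟨hxV, hxW'⟩
  -- the fibre
  let s := f (p x)
  let φ := S.fromSpecResidueField s
  have hs : ∀ y, φ y = s := fun y => by
    have : φ y ∈ Set.range φ := ⟨y, rfl⟩
    rw [S.range_fromSpecResidueField] at this
    exact this
  have eT : ⊤ ≤ φ ⁻¹ᵁ W := fun y _ => by
    show φ y ∈ W
    rw [hs y]
    exact hsW
  have hK : IsField Γ(Spec (S.residueField s), ⊤) := MulEquiv.isField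
    (Field.toIsField (S.residueField s))
    (Scheme.ΓSpecIso (S.residueField s)).commRingCatIsoToRingEquiv.toMulEquiv
  have hsK : IsPullback (f.fiberι s) (f.fiberToSpecResidueField s) f φ := IsPullback.of_hasPullback f φ
  obtain ⟨gI, hgI, hreg⟩ := exists_regular_fibre f F hF U hsK (isAffineOpen_top _) hK hW hVx eU eT (h s)
  obtain ⟨y⟩ : Nonempty (Spec (S.residueField s)) := inferInstance
  have hker : RingHom.ker (φ.appLE W ⊤ eT).hom = WeakAss.primeAt (f (p x)) hsW := by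
    rw [ker_appLE_of_isField φ eT hK (y := y) trivial]
    congr 1
    exact hs y
  -- coordinates
  let A := Γ(S, W)
  let B := Γ(X, Vx)
  letI : Algebra A B := (f.appLE W Vx eU).hom.toAlgebra
  letI := hK.toField
  let Ps := f.fiberι s ⁻¹ᵁ Vx ⊓ f.fiberToSpecResidueField s ⁻¹ᵁ (⊤ : (Spec (S.residueField s)).Opens)
  letI : Algebra A Γ(Spec (S.residueField s), ⊤) := (φ.appLE W ⊤ eT).hom.toAlgebra
  letI : Algebra Γ(Spec (S.residueField s), ⊤) Γ(f.fiber s, Ps) :=
    ((f.fiberToSpecResidueField s).appLE ⊤ Ps inf_le_right).hom.toAlgebra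
  letI : Algebra B Γ(f.fiber s, Ps) := ((f.fiberι s).appLE Vx Ps inf_le_left).hom.toAlgebra
  letI : Algebra A Γ(f.fiber s, Ps) := ((algebraMap B Γ(f.fiber s, Ps)).comp (algebraMap A B)).toAlgebra
  haveI : IsScalarTower A B Γ(f.fiber s, Ps) := IsScalarTower.of_algebraMap_eq' rfl
  haveI : IsScalarTower A Γ(Spec (S.residueField s), ⊤) Γ(f.fiber s, Ps) := IsScalarTower.of_algebraMap_eq' (by
    show ((f.fiberι s).appLE Vx Ps _).hom.comp (f.appLE W Vx _).hom =
      ((f.fiberToSpecResidueField s).appLE ⊤ Ps _).hom.comp (φ.appLE W ⊤ _).hom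
    rw [← CommRingCat.hom_comp, ← CommRingCat.hom_comp, Scheme.Hom.appLE_comp_appLE,
      Scheme.Hom.appLE_comp_appLE]
    simp only [hsK.w])
  haveI : Algebra.IsPushout A Γ(Spec (S.residueField s), ⊤) B Γ(f.fiber s, Ps) :=
    FlatLimit.isPushout_square hsK eT eU hW (isAffineOpen_top _) hVx rfl rfl rfl rfl
  letI : Algebra A Γ(S', W') := (g.appLE W W' eV).hom.toAlgebra
  letI : Algebra Γ(S', W') Γ(X', P) := (f'.appLE W' P inf_le_right).hom.toAlgebra
  letI : Algebra B Γ(X', P) := (p.appLE Vx P inf_le_left).hom.toAlgebra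
  letI : Algebra A Γ(X', P) := ((algebraMap B Γ(X', P)).comp (algebraMap A B)).toAlgebra
  haveI : IsScalarTower A B Γ(X', P) := IsScalarTower.of_algebraMap_eq' rfl
  haveI : IsScalarTower A Γ(S', W') Γ(X', P) := IsScalarTower.of_algebraMap_eq' (by
    show (p.appLE Vx P _).hom.comp (f.appLE W Vx _).hom =
      (f'.appLE W' P _).hom.comp (g.appLE W W' _).hom
    rw [← CommRingCat.hom_comp, ← CommRingCat.hom_comp, Scheme.Hom.appLE_comp_appLE,
      Scheme.Hom.appLE_comp_appLE]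
    simp only [hsq.w])
  haveI : Algebra.IsPushout A Γ(S', W') B Γ(X', P) :=
    FlatLimit.isPushout_square hsq eV eU hW hW' hVx rfl rfl rfl rfl
  letI : Module A Γ(F, Vx) := Module.compHom _ (algebraMap A B)
  haveI : IsScalarTower A B Γ(F, Vx) := IsScalarTower.of_algebraMap_smul fun _ _ => rfl
  haveI := finitePresentation_sections F hF hVx
  haveI : Algebra.FinitePresentation A B :=
    HasRingHomProperty.appLE @LocallyOfFinitePresentation f ‹_› ⟨W, hW⟩ ⟨Vx, hVx⟩ eU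
  let q := WeakAss.primeAt (p x) hxV
  have hq : WeakAss.primeAt (f (p x)) hsW = q.comap (algebraMap A B) :=
    (AssPts.comap_primeAt f eU hxV).symm
  have hpq : ∀ b ∉ q, algebraMap B Γ(X', P) b ∉ WeakAss.primeAt x hxP := fun b hb hb' => hb (by
    show b ∈ WeakAss.primeAt (p x) hxV
    rw [← AssPts.comap_primeAt p (inf_le_left : P ≤ p ⁻¹ᵁ Vx) hxP]
    exact hb')
  have hflatq := (isFlatOverAt_iff f F hW hVx eU hxV rfl).mp (hflat (p x))
  -- the germ
  letI : Module Γ(X', P) (F'.presheaf.stalk x) := Module.compHom _ (X'.presheaf.germ P x hxP).hom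
  obtain ⟨loc, hloc⟩ := exists_isLocalizedModule_pullback p F hVx hP inf_le_left hxP rfl
  obtain ⟨h₀, hD, hxD⟩ := hP.exists_basicOpen_le (V := V ⊓ P) ⟨x, hx, hxP⟩ hxP
  let D := X'.basicOpen h₀
  have eDV : D ≤ V := fun y hy => (hD hy).1
  have eDP : D ≤ P := fun y hy => (hD hy).2
  let tD := F'.presheaf.map (homOfLE eDV).op t
  let gD : Γ(X', D) := X'.presheaf.map (homOfLE eDP).op (algebraMap B Γ(X', P) gI)
  have hle : X'.basicOpen gD ≤ V ⊓ p ⁻¹ᵁ U := by
    intro y hy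
    refine ⟨eDV (X'.basicOpen_le gD hy), ?_⟩
    rw [show gD = X'.presheaf.map (homOfLE eDP).op (algebraMap B Γ(X', P) gI) from rfl,
      Scheme.basicOpen_res] at hy
    have h1 : y ∈ X'.basicOpen (p.appLE Vx P inf_le_left gI) := hy.2
    rw [Scheme.basicOpen_appLE] at h1
    exact (mem_vanishIdeal_iff U).mp hgI h1.2
  obtain ⟨n, hn⟩ := (QCoh.smulLift_and_smulSep_of_isAffineOpen (hP.basicOpen h₀) F' gD).2 tD (by
    have h1 : F'.presheaf.map (homOfLE (X'.basicOpen_le gD)).op tD =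
        F'.presheaf.map (homOfLE hle).op
          (F'.presheaf.map (homOfLE (inf_le_left : V ⊓ p ⁻¹ᵁ U ≤ V)).op t) := by
      rw [← ConcreteCategory.comp_apply, ← ConcreteCategory.comp_apply, ← Functor.map_comp,
        ← Functor.map_comp]
      rfl
    rw [h1, ht, map_zero])
  let γ := F'.presheaf.germ V x hx t
  have hγ : algebraMap B Γ(X', P) gI ^ n • γ = 0 := by
    show X'.presheaf.germ P x hxP (algebraMap B Γ(X', P) gI ^ n) • γ = 0
    have h1 := congrArg (F'.presheaf.germ D x hxD) hn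
    rw [map_zero, WeakAss.germ_smul, map_pow,
      TopCat.Presheaf.germ_res_apply X'.presheaf, TopCat.Presheaf.germ_res_apply F'.presheaf] at h1
    rw [map_pow]
    exact h1
  obtain ⟨⟨z, c⟩, hz⟩ := IsLocalizedModule.surj (WeakAss.primeAt x hxP).primeCompl loc γ
  obtain ⟨c', hc'⟩ := (IsLocalizedModule.eq_zero_iff (WeakAss.primeAt x hxP).primeCompl loc
    (m := algebraMap B Γ(X', P) gI ^ n • z)).mp (by rw [map_smul, ← hz, smul_comm, hγ, smul_zero])
  rw [Submonoid.smul_def, smul_comm] at hc'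
  obtain ⟨b, hb, hb0⟩ := FibreFlat.univ_regular_pushout (A := A) (B := B) (M := Γ(F, Vx))
    (K := Γ(Spec (S.residueField s), ⊤)) (BK := Γ(f.fiber s, Ps)) (A' := Γ(S', W')) (B' := Γ(X', P))
    q hflatq (hker.trans hq) gI hreg n _ hc'
  have h2 : loc z = 0 := (IsLocalizedModule.eq_zero_iff (WeakAss.primeAt x hxP).primeCompl loc).mpr
    ⟨⟨_, mul_mem (show algebraMap B Γ(X', P) b ∈ (WeakAss.primeAt x hxP).primeCompl from hpq b hb) c'.2⟩,
      by rw [Submonoid.smul_def, mul_smul]; exact hb0⟩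
  rw [← hz] at h2
  exact ((Module.End.isUnit_iff _).mp
    (IsLocalizedModule.map_units (S := (WeakAss.primeAt x hxP).primeCompl) loc c)).1
      (h2.trans (map_zero _).symm)

end GrothLib.FlatFP
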