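import Groth.Agent.Lib.FibreFlat.OpenLocus
import Groth.Agent.Lib.FlatModel.Descent
import Mathlib.RingTheory.Ideal.MinimalPrime.Localization
import Mathlib.RingTheory.Spectrum.Prime.Topology

/-!
# The set of primes of an intermediate ring at which a module is flat over the base
-/

universe u

namespace GrothLib.FlatFP

open TensorProduct Function

variable {A B C : Type u} [CommRing A] [CommRing B] [CommRing C]
  [Algebra A B] [Algebra B C] [Algebra A C] [IsScalarTower A B C]
  (M : Type u) [AddCommGroup M] [Module C M] [Module B M] [Module A M]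
  [IsScalarTower B C M] [IsScalarTower A C M] [IsScalarTower A B M]

/-- `M_q` is flat over `A` iff `M` is flat at every prime of `C` lying over a generisation of `q`. -/
theorem flat_localized_iff_forall_prime (q : Ideal B) [q.IsPrime] :
    Module.Flat A (LocalizedModule q.primeCompl M) ↔
      ∀ (Q : Ideal C) [Q.IsPrime], Q.comap (algebraMap B C) ≤ q →
        Module.Flat A (LocalizedModule Q.primeCompl M) := by
  let ι : M →ₗ[B] LocalizedModule q.primeCompl M := LocalizedModule.mkLinearMap q.primeCompl M
  constructor
  · intro hq Q _ hQ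
    rw [Module.Flat.iff_lTensor_preserves_injective_linearMap]
    intro N N' _ _ _ _ f hf
    refine GrothLib.FibreFlat.lTensor_injective_of_isLocalizedModule Q.primeCompl
      (LocalizedModule.mkLinearMap Q.primeCompl M) f fun x hx => ?_
    let σ := TensorProduct.AlgebraTensorModule.rTensor A N ι
    let σ' := TensorProduct.AlgebraTensorModule.rTensor A N' ι
    have hc : ∀ y, f.lTensor _ (σ y) = σ' (f.lTensor _ y) := fun y => by
      induction y using TensorProduct.induction_on with
      | zero => simp
      | add a b ha hb => simp only [map_add, ha, hb]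
      | tmul a b => rfl
    have h3 : σ x = σ 0 :=
      Module.Flat.lTensor_preserves_injective_linearMap (M := LocalizedModule q.primeCompl M) f hf
        (by rw [hc, hx, map_zero, map_zero, map_zero])
    obtain ⟨t, ht⟩ := (IsLocalizedModule.eq_iff_exists q.primeCompl σ).mp h3
    refine ⟨algebraMap B C t, fun h => t.2 (hQ h), ?_⟩
    rw [smul_zero, Submonoid.smul_def] at ht
    rw [algebraMap_smul]
    exact ht
  · intro h
    let T : Submonoid C := q.primeCompl.map (algebraMap B C)
    let L := LocalizedModule T M
    let μ : M →ₗ[B] L := (LocalizedModule.mkLinearMap T M).restrictScalars B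
    haveI : IsLocalizedModule q.primeCompl μ := by
      refine ⟨fun t => ?_, fun y => ?_, fun {a b} hab => ?_⟩
      · have hu := IsLocalizedModule.map_units (S := T) (LocalizedModule.mkLinearMap T M)
          ⟨algebraMap B C t, Submonoid.mem_map_of_mem _ t.2⟩
        rw [Module.End.isUnit_iff] at hu ⊢
        convert hu using 1
        funext x
        simp only [Module.algebraMap_end_apply]
        exact (algebraMap_smul C (t : B) x).symm
      · obtain ⟨⟨x, ⟨_, t, htq, rfl⟩⟩, hs⟩ :=
          IsLocalizedModule.surj T (LocalizedModule.mkLinearMap T M) y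
        exact ⟨⟨x, ⟨t, htq⟩⟩, (algebraMap_smul C t y).symm.trans hs⟩
      · obtain ⟨⟨_, t, htq, rfl⟩, hs⟩ :=
          (IsLocalizedModule.eq_iff_exists T (LocalizedModule.mkLinearMap T M)).mp hab
        exact ⟨⟨t, htq⟩, (algebraMap_smul C t a).symm.trans (hs.trans (algebraMap_smul C t b))⟩
    haveI : Module.Flat A L := by
      rw [Module.Flat.iff_lTensor_preserves_injective_linearMap]
      intro N N' _ _ _ _ f hf
      refine GrothLib.FibreFlat.lTensor_injective_of_isLocalizedModule T
        (LocalizedModule.mkLinearMap T M) f fun x hx => ?_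
      -- the annihilator of `x` meets `T`
      by_contra hne
      push Not at hne
      let I : Ideal C := LinearMap.ker (LinearMap.toSpanSingleton C _ x)
      have hdisj : Disjoint (I : Set C) (T : Set C) := by
        rw [Set.disjoint_left]
        exact fun s hs hsT => hne s hsT (LinearMap.mem_ker.mp hs)
      obtain ⟨Q, hQ, hIQ, hQT⟩ := Ideal.exists_le_prime_disjoint I T hdisj
      have hle : Q.comap (algebraMap B C) ≤ q := fun t ht => by
        by_contra htq
        exact Set.disjoint_left.mp hQT ht (Submonoid.mem_map_of_mem _ htq)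
      haveI := h Q hle
      let σ := TensorProduct.AlgebraTensorModule.rTensor A N (LocalizedModule.mkLinearMap Q.primeCompl M)
      let σ' := TensorProduct.AlgebraTensorModule.rTensor A N' (LocalizedModule.mkLinearMap Q.primeCompl M)
      have hc : ∀ y, f.lTensor _ (σ y) = σ' (f.lTensor _ y) := fun y => by
        induction y using TensorProduct.induction_on with
        | zero => simp
        | add a b ha hb => simp only [map_add, ha, hb]
        | tmul a b => rfl
      have h3 : σ x = σ 0 :=
        Module.Flat.lTensor_preserves_injective_linearMap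
          (M := LocalizedModule Q.primeCompl M) f hf
          (by rw [hc, hx, map_zero, map_zero, map_zero])
      obtain ⟨t, ht⟩ := (IsLocalizedModule.eq_iff_exists Q.primeCompl σ).mp h3
      rw [smul_zero, Submonoid.smul_def] at ht
      exact t.2 (hIQ (LinearMap.mem_ker.mpr ht))
    exact Module.Flat.of_linearEquiv
      ((IsLocalizedModule.linearEquiv q.primeCompl ι μ).restrictScalars A)

/-- **The set of primes `q` of `B` with `M_q` flat over `A` is open.** -/
theorem isOpen_setOf_flat_localized [Algebra.FinitePresentation A C]
    [Module.FinitePresentation C M] :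
    IsOpen {q : PrimeSpectrum B | Module.Flat A (LocalizedModule q.asIdeal.primeCompl M)} := by
  obtain ⟨I, hI⟩ : ∃ I : Ideal C, PrimeSpectrum.zeroLocus (I : Set C) =
      {Q : PrimeSpectrum C | Module.Flat A (LocalizedModule Q.asIdeal.primeCompl M)}ᶜ :=
    ((PrimeSpectrum.isClosed_iff_zeroLocus_ideal _).mp
      (GrothLib.FibreFlat.isOpen_flat_locus (R := A) (A := C) (M := M)).isClosed_compl).imp
        fun _ h => h.symm
  convert (PrimeSpectrum.isClosed_zeroLocus
    ((I.comap (algebraMap B C) : Ideal B) : Set B)).isOpen_compl using 1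
  ext q
  rw [Set.mem_setOf_eq, Set.mem_compl_iff, PrimeSpectrum.mem_zeroLocus,
    flat_localized_iff_forall_prime (A := A) (C := C) M q.asIdeal]
  constructor
  · intro h hIq
    obtain ⟨p, hp, hpq⟩ := Ideal.exists_minimalPrimes_le (show I.comap (algebraMap B C) ≤ q.asIdeal from hIq)
    obtain ⟨Q, hQ, hIQ, hQp⟩ := Ideal.exists_comap_eq_of_mem_minimalPrimes (algebraMap B C) p hp
    have : (⟨Q, hQ⟩ : PrimeSpectrum C) ∈ PrimeSpectrum.zeroLocus (I : Set C) := hIQ
    rw [hI] at this
    exact this (h Q (hQp.symm ▸ hpq))
  · intro h Q _ hQ
    by_contra hflat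
    have : (⟨Q, inferInstance⟩ : PrimeSpectrum C) ∈ PrimeSpectrum.zeroLocus (I : Set C) := by
      rw [hI]; exact hflat
    exact h ((Ideal.comap_mono this).trans hQ)

end GrothLib.FlatFP
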