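import Groth.Agent.Lib.FlatFP.Kernel
import Mathlib.RingTheory.Flat.Equalizer
import Mathlib.RingTheory.Localization.BaseChange
import Mathlib.RingTheory.Localization.LocalizationLocalization

/-!
# Injective at a prime with flat cokernel (EGA IV 11.3.7), algebra
-/

set_option autoImplicit false
universe u

namespace GrothLib.FlatFP

open TensorProduct Function

section

variable {A B : Type u} [CommRing A] [CommRing B] [Algebra A B] {C : Type u} [AddCommGroup C]
  [Module B C] [Module A C] [IsScalarTower A B C]

/-- Flatness at all primes of `D(g)` gives flatness of the localisation away from `g`. -/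
theorem flat_away_of_primes (g : B)
    (h : ∀ (q : Ideal B) [q.IsPrime], g ∉ q → Module.Flat A (LocalizedModule q.primeCompl C)) :
    Module.Flat A (LocalizedModule (Submonoid.powers g) C) := by
  let Bg := Localization.Away g
  let Cg := LocalizedModule (Submonoid.powers g) C
  refine Module.flat_of_isLocalized_maximal Bg Cg (fun P _ => LocalizedModule P.primeCompl Cg)
    (fun P _ => LocalizedModule.mkLinearMap P.primeCompl Cg) fun P _ => ?_
  let q := P.comap (algebraMap B Bg)
  have hgq : g ∉ q := fun hm => Ideal.IsPrime.ne_top ‹P.IsMaximal›.isPrime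
    (Ideal.eq_top_of_isUnit_mem _ hm (IsLocalization.Away.algebraMap_isUnit g))
  haveI : IsLocalization q.primeCompl (Localization.AtPrime P) :=
    IsLocalization.isLocalization_isLocalization_atPrime_isLocalization (Submonoid.powers g)
      (Localization.AtPrime P) P
  let L := LocalizedModule P.primeCompl Cg
  have hbc : IsBaseChange (Localization.AtPrime P)
      (((LocalizedModule.mkLinearMap P.primeCompl Cg).restrictScalars B).comp
        (LocalizedModule.mkLinearMap (Submonoid.powers g) C)) :=
    IsBaseChange.comp (IsLocalizedModule.isBaseChange (Submonoid.powers g) Bg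
      (LocalizedModule.mkLinearMap (Submonoid.powers g) C))
      (IsLocalizedModule.isBaseChange P.primeCompl (Localization.AtPrime P)
        (LocalizedModule.mkLinearMap P.primeCompl Cg))
  haveI := (isLocalizedModule_iff_isBaseChange q.primeCompl (Localization.AtPrime P) _).mpr hbc
  haveI := h q hgq
  exact Module.Flat.of_linearEquiv ((IsLocalizedModule.linearEquiv q.primeCompl
    (((LocalizedModule.mkLinearMap P.primeCompl Cg).restrictScalars B).comp
        (LocalizedModule.mkLinearMap (Submonoid.powers g) C))
    (LocalizedModule.mkLinearMap q.primeCompl C)).restrictScalars A)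

variable {N M : Type u} [AddCommGroup N] [Module B N] [AddCommGroup M] [Module B M]

/-- Over an open where the cokernel is flat, the kernel is finitely generated. -/
theorem exists_fg_ker_away [Algebra.FinitePresentation A B] [Module.FinitePresentation B N]
    [Module.FinitePresentation B M] [Module.FinitePresentation B C] (u : N →ₗ[B] M) (π : M →ₗ[B] C)
    (hex : Exact u π) (hπ : Surjective π) (g : B)
    (h : ∀ (q : Ideal B) [q.IsPrime], g ∉ q → Module.Flat A (LocalizedModule q.primeCompl C)) :
    ∃ k : Finset N, (∀ x ∈ k, u x = 0) ∧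
      ∀ z, u z = 0 → ∃ n : ℕ, g ^ n • z ∈ Submodule.span B (k : Set N) := by
  classical
  let Bg := Localization.Away g
  haveI : Algebra.FinitePresentation B Bg := IsLocalization.Away.finitePresentation g
  haveI : Algebra.FinitePresentation A Bg := Algebra.FinitePresentation.trans A B Bg
  let Ng := LocalizedModule (Submonoid.powers g) N
  let Mg := LocalizedModule (Submonoid.powers g) M
  let Cg := LocalizedModule (Submonoid.powers g) C
  haveI : Module.FinitePresentation Bg Ng := inferInstance
  haveI : Module.FinitePresentation Bg Mg := inferInstance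
  haveI : Module.FinitePresentation Bg Cg := inferInstance
  haveI : Module.Flat A Cg := flat_away_of_primes g h
  let ug : Ng →ₗ[Bg] Mg := LocalizedModule.map (Submonoid.powers g) u
  let πg : Mg →ₗ[Bg] Cg := LocalizedModule.map (Submonoid.powers g) π
  have hexg : Exact ug πg := LocalizedModule.map_exact (Submonoid.powers g) u π hex
  have hπg : Surjective πg := LocalizedModule.map_surjective (Submonoid.powers g) π hπ
  haveI : Module.FinitePresentation Bg (LinearMap.ker πg) :=
    finitePresentation_ker A Bg Mg Cg πg hπg
  let v : Ng →ₗ[Bg] LinearMap.ker πg := LinearMap.codRestrict _ ug fun z => hexg.apply_apply_eq_zero z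
  have hv : Surjective v := fun w => by
    obtain ⟨z, hz⟩ := (hexg w.1).mp w.2
    exact ⟨z, Subtype.ext hz⟩
  have hfg : (LinearMap.ker ug).FG := by
    have h1 := Module.FinitePresentation.fg_ker v hv
    rwa [LinearMap.ker_codRestrict] at h1
  obtain ⟨s, hs⟩ := hfg
  have hlift : ∀ y ∈ s, ∃ z : N, u z = 0 ∧ ∃ c : Bg, y = c • LocalizedModule.mkLinearMap _ N z := by
    intro y hy
    induction y using LocalizedModule.induction_on with
    | h z t =>
      have h0 : ug (LocalizedModule.mk z t) = 0 := by
        rw [← LinearMap.mem_ker, ← hs]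
        exact Submodule.subset_span hy
      rw [show ug (LocalizedModule.mk z t) = LocalizedModule.mk (u z) t from
        LocalizedModule.map_mk _ u z t] at h0
      obtain ⟨⟨r, hr⟩, hr0⟩ := LocalizedModule.mk_eq.mp (h0.trans (LocalizedModule.zero_mk 1).symm)
      simp only [one_smul, smul_zero, Submonoid.smul_def] at hr0
      refine ⟨r • z, by rw [map_smul, hr0], Localization.mk 1 (t * ⟨r, hr⟩), ?_⟩
      rw [LocalizedModule.mkLinearMap_apply, LocalizedModule.mk_smul_mk, one_smul, mul_one,
        LocalizedModule.mk_eq]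
      exact ⟨1, by simp only [one_smul, Submonoid.smul_def, Submonoid.coe_mul, mul_smul]⟩
  choose z hz c hc using hlift
  refine ⟨s.attach.image fun y => z y.1 y.2, fun x hx => ?_, fun w hw => ?_⟩
  · obtain ⟨y, -, rfl⟩ := Finset.mem_image.1 hx
    exact hz y.1 y.2
  · let P := Submodule.span B ((s.attach.image fun y => z y.1 y.2 : Finset N) : Set N)
    have hmem : LocalizedModule.mkLinearMap (Submonoid.powers g) N w ∈
        Submodule.localized' Bg (Submonoid.powers g) (LocalizedModule.mkLinearMap _ N) P := by
      have h0 : LocalizedModule.mkLinearMap (Submonoid.powers g) N w ∈ LinearMap.ker ug := by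
        show ug (LocalizedModule.mk w 1) = 0
        rw [show ug (LocalizedModule.mk w 1) = LocalizedModule.mk (u w) 1 from
          LocalizedModule.map_mk _ u w 1, hw]
        exact LocalizedModule.zero_mk 1
      rw [← hs] at h0
      refine Submodule.span_le.mpr ?_ h0
      intro y hy
      rw [hc y hy]
      refine Submodule.smul_mem _ _ ⟨z y hy, Submodule.subset_span ?_, 1, ?_⟩
      · exact Finset.mem_coe.2 (Finset.mem_image.2 ⟨⟨y, hy⟩, Finset.mem_attach _ _, rfl⟩)
      · exact IsLocalizedModule.mk'_one _ _ _
    obtain ⟨m, hm, t, ht⟩ := hmem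
    rw [IsLocalizedModule.mk'_eq_iff] at ht
    obtain ⟨r, hr⟩ := (IsLocalizedModule.eq_iff_exists (Submonoid.powers g)
      (LocalizedModule.mkLinearMap _ N)).mp (ht.trans (LinearMap.map_smul_of_tower _ t w).symm)
    obtain ⟨n, hn⟩ := (r * t).2
    refine ⟨n, ?_⟩
    rw [show g ^ n = ((r * t : Submonoid.powers g) : B) from hn]
    show ((r * t : Submonoid.powers g) : B) • w ∈ P
    rw [← Submonoid.smul_def, mul_smul, ← hr]
    exact P.smul_mem _ hm

end

section

variable {S B : Type u} [CommRing S] [CommRing B] [Algebra S B] (T : Type u) [AddCommGroup T]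
  [Module S T]
  {N M C : Type u} [AddCommGroup N] [Module B N] [Module S N] [IsScalarTower S B N]
  [AddCommGroup M] [Module B M] [Module S M] [IsScalarTower S B M]
  [AddCommGroup C] [Module B C] [Module S C] [IsScalarTower S B C]

/-- The kernel after base change, near a prime where the cokernel is flat. -/
theorem exists_smul_mem_of_baseChange (u : N →ₗ[B] M) (π : M →ₗ[B] C) (hex : Exact u π)
    (hπ : Surjective π) (p : Ideal B) [p.IsPrime] [Module.Flat S (LocalizedModule p.primeCompl C)]
    (k : Set N) (hk : ∀ z, u z = 0 → ∃ t ∉ p, t • z ∈ Submodule.span B k)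
    (z : N ⊗[S] T) (hz : AlgebraTensorModule.rTensor S T u z = 0) :
    ∃ t ∉ p, t • z ∈
      LinearMap.range (AlgebraTensorModule.rTensor S T (Submodule.span B k).subtype) := by
  let fN := LocalizedModule.mkLinearMap p.primeCompl N
  let uL : LocalizedModule p.primeCompl N →ₗ[B] LocalizedModule p.primeCompl M :=
    IsLocalizedModule.map p.primeCompl fN (LocalizedModule.mkLinearMap p.primeCompl M) u
  let πL : LocalizedModule p.primeCompl M →ₗ[B] LocalizedModule p.primeCompl C :=
    IsLocalizedModule.map p.primeCompl (LocalizedModule.mkLinearMap p.primeCompl M)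
      (LocalizedModule.mkLinearMap p.primeCompl C) π
  have hexL : Exact uL πL := IsLocalizedModule.map_exact p.primeCompl _ _ _ u π hex
  have hπL : Surjective πL := IsLocalizedModule.map_surjective p.primeCompl _ _ π hπ
  let R := LinearMap.range (AlgebraTensorModule.rTensor S T (Submodule.span B k).subtype)
  let v := (uL.rangeRestrict).restrictScalars S
  let i := (LinearMap.range uL).subtype.restrictScalars S
  have hi : Injective (i.rTensor T) :=
    (LinearMap.lTensor_inj_iff_rTensor_inj T i).mp
      (LinearMap.lTensor_injective_of_exact_of_flat (πL.restrictScalars S) hπL i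
        (Submodule.injective_subtype _) (fun w => (hexL w).trans
          ⟨fun ⟨a, ha⟩ => ⟨⟨w, a, ha⟩, rfl⟩, fun ⟨⟨_, a, ha⟩, h⟩ => ⟨a, ha.trans h⟩⟩) T)
  have hkey : ∀ w : LinearMap.ker uL ⊗[S] T, ∃ t ∉ p, ∃ r ∈ R,
      t • AlgebraTensorModule.rTensor S T (LinearMap.ker uL).subtype w =
        AlgebraTensorModule.rTensor S T fN r := by
    intro w
    induction w using TensorProduct.induction_on with
    | zero => exact ⟨1, fun h => ‹p.IsPrime›.ne_top ((Ideal.eq_top_iff_one p).2 h), 0, zero_mem _,
        by simp⟩
    | add a b ha hb =>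
      obtain ⟨t, ht, r, hr, e⟩ := ha
      obtain ⟨t', ht', r', hr', e'⟩ := hb
      refine ⟨t' * t, fun h => (Ideal.IsPrime.mem_or_mem inferInstance h).elim ht' ht,
        t' • r + t • r', add_mem (R.smul_mem _ hr) (R.smul_mem _ hr'), ?_⟩
      rw [map_add, smul_add, mul_smul, e, map_add, map_smul, map_smul, ← e', smul_smul t t',
        mul_comm t' t]
    | tmul κ a =>
      obtain ⟨κ, hκ⟩ := κ
      obtain ⟨⟨n, s⟩, hn⟩ := IsLocalizedModule.surj p.primeCompl fN κ
      have h1 : LocalizedModule.mkLinearMap p.primeCompl M (u n) = 0 := by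
        rw [← IsLocalizedModule.map_apply p.primeCompl fN (LocalizedModule.mkLinearMap p.primeCompl M) u n,
          ← hn]
        show uL ((s : B) • κ) = 0
        rw [map_smul, LinearMap.mem_ker.mp hκ, smul_zero]
      obtain ⟨r₁, hr₁⟩ := (IsLocalizedModule.eq_zero_iff p.primeCompl _).mp h1
      obtain ⟨r₂, hr₂, hmem⟩ := hk ((r₁ : B) • n) (by rw [map_smul]; exact hr₁)
      refine ⟨r₂ * r₁ * s, fun h => (Ideal.IsPrime.mem_or_mem inferInstance h).elim
        (fun h' => (Ideal.IsPrime.mem_or_mem inferInstance h').elim hr₂ r₁.2) s.2,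
        (r₂ • (r₁ : B) • n) ⊗ₜ a, ⟨⟨_, hmem⟩ ⊗ₜ a, rfl⟩, ?_⟩
      show (r₂ * r₁ * s : B) • (κ ⊗ₜ[S] a) = fN (r₂ • (r₁ : B) • n) ⊗ₜ a
      rw [map_smul, map_smul, ← hn, TensorProduct.smul_tmul', mul_smul, mul_smul]
      rfl
  let e := AlgebraTensorModule.rTensor S T fN
  have h2 : (v.rTensor T) (e z) = 0 := by
    apply hi
    rw [map_zero, ← LinearMap.rTensor_comp_apply]
    have hcomp : (i.comp v).rTensor T (e z) =
        AlgebraTensorModule.rTensor S T (LocalizedModule.mkLinearMap p.primeCompl M)
          (AlgebraTensorModule.rTensor S T u z) := by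
      clear hz
      induction z using TensorProduct.induction_on with
      | zero => simp
      | add a b ha hb => simp only [map_add, ha, hb]
      | tmul n a =>
        show uL (fN n) ⊗ₜ a = LocalizedModule.mkLinearMap p.primeCompl M (u n) ⊗ₜ a
        rw [show uL (fN n) = LocalizedModule.mkLinearMap p.primeCompl M (u n) from
          IsLocalizedModule.map_apply p.primeCompl fN _ u n]
    rw [hcomp, hz, map_zero]
  obtain ⟨w, hw⟩ := ((rTensor_exact T
    (show Exact ((LinearMap.ker uL).subtype.restrictScalars S) v from fun a =>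
      ⟨fun h => ⟨⟨a, congrArg Subtype.val h⟩, rfl⟩, fun ⟨b, hb⟩ => Subtype.ext (by
        subst hb; exact b.2)⟩)
    (fun b => by obtain ⟨a, ha⟩ := uL.surjective_rangeRestrict b; exact ⟨a, ha⟩)) (e z)).mp h2
  obtain ⟨t, ht, r, hr, er⟩ := hkey w
  have : e (t • z) = e r := by
    rw [map_smul, ← hw]
    exact er
  obtain ⟨t', ht'⟩ := (IsLocalizedModule.eq_iff_exists p.primeCompl e).mp this
  refine ⟨t' * t, fun h => (Ideal.IsPrime.mem_or_mem inferInstance h).elim t'.2 ht, ?_⟩
  show ((t' : B) * t) • z ∈ R
  rw [mul_smul, show (t' : B) • t • z = (t' : B) • r from ht']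
  exact R.smul_mem _ hr

end

end GrothLib.FlatFP
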