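import Groth.Agent.Lib.FlatFP.Resolution
import Groth.Agent.Lib.FibreFlat.Global
import Mathlib.RingTheory.LocalRing.Module
import Mathlib.RingTheory.Support

/-!
# Projective dimension of flat finitely presented modules is computed on fibres
-/

universe u

open CategoryTheory TensorProduct

namespace GrothLib.FlatFP

open GrothLib.Serre

variable {A B : Type u} [CommRing A] [CommRing B] [Algebra A B] [Algebra.FinitePresentation A B]
  [Module.Flat A B]

theorem FlatFPMod.syz_succ (S : FlatFPMod A B) : ∀ n, S.syz (n + 1) = S.next.syz n
  | 0 => rfl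
  | n + 1 => congrArg FlatFPMod.next (S.syz_succ n)

/-- Projective dimension at most `n` means the `n`-th syzygy is projective. -/
theorem pdLE_iff_syz : ∀ (n : ℕ) (S : FlatFPMod A B),
    PdLE B S.carrier n ↔ Module.Projective B (S.syz n).carrier
  | 0, _ => pdLE_zero_iff
  | n + 1, S => by
    rw [S.syz_succ n]
    exact (pdLE_succ_iff S.aug S.aug_surjective n).trans (pdLE_iff_syz n S.next)

/-- Kernels onto flat modules survive tensoring with a fibre ring. -/
theorem injective_lTensor_incl (k : Type u) [CommRing k] [Algebra A k] (S : FlatFPMod A B) :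
    Function.Injective (S.incl.lTensor (B ⊗[A] k)) := by
  let θ := fun (N : Type u) [AddCommGroup N] [Module B N] [Module A N] [IsScalarTower A B N] =>
    (TensorProduct.comm B (B ⊗[A] k) N).trans
      (AlgebraTensorModule.cancelBaseChange A B B N k)
  have hc : ∀ x, θ (Fin S.rk → B) (S.incl.lTensor _ x) =
      (S.incl.restrictScalars A).rTensor k (θ S.next.carrier x) := by
    intro x
    induction x using TensorProduct.induction_on with
    | zero => simp
    | add a b ha hb => simp only [map_add, ha, hb]
    | tmul a b =>
      induction a using TensorProduct.induction_on with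
      | zero => simp
      | add a a' ha ha' => simp only [add_tmul, map_add, ha, ha']
      | tmul c y =>
        simp only [θ, LinearMap.lTensor_tmul, LinearEquiv.trans_apply, TensorProduct.comm_tmul,
          AlgebraTensorModule.cancelBaseChange_tmul, LinearMap.rTensor_tmul,
          LinearMap.coe_restrictScalars, map_smul]
  have hinj : Function.Injective ((S.incl.restrictScalars A).rTensor k) := by
    have h1 : Function.Injective ((S.incl.restrictScalars A).lTensor k) :=
      LinearMap.lTensor_injective_of_exact_of_flat (S.aug.restrictScalars A) S.aug_surjective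
        (S.incl.restrictScalars A) S.incl_injective (fun x => S.exact_incl_aug x) k
    intro x y hxy
    apply (TensorProduct.comm A S.next.carrier k).injective
    apply h1
    rw [← LinearMap.comm_comp_rTensor_comp_comm_eq]
    simp only [LinearMap.comp_apply, LinearEquiv.coe_coe, TensorProduct.comm_comm]
    rw [hxy]
  intro x y hxy
  apply (θ S.next.carrier).injective
  apply hinj
  rw [← hc, ← hc, hxy]

/-- **Projective dimension at most `n` is detected on the fibres.** -/
theorem pdLE_iff_fibres : ∀ (n : ℕ) (S : FlatFPMod A B),
    PdLE B S.carrier n ↔ ∀ p : PrimeSpectrum A,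
      PdLE (B ⊗[A] p.asIdeal.ResidueField) ((B ⊗[A] p.asIdeal.ResidueField) ⊗[B] S.carrier) n
  | 0, S => by
    rw [pdLE_zero_iff]
    refine ⟨fun _ p => pdLE_zero_iff.mpr inferInstance, fun h => ?_⟩
    haveI : Module.Flat B S.carrier := GrothLib.FibreFlat.flat_of_fibres (R := A) (S := B) (S' := B)
      fun p _ => by
        haveI := pdLE_zero_iff.mp (h ⟨p, inferInstance⟩)
        infer_instance
    exact Module.Flat.projective_of_finitePresentation
  | n + 1, S => by
    refine (pdLE_succ_iff S.aug S.aug_surjective n).trans ((pdLE_iff_fibres n S.next).trans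
      (forall_congr' fun p => ?_))
    exact (pdLE_baseChange_succ_iff (B ⊗[A] p.asIdeal.ResidueField) S.aug S.aug_surjective
      (injective_lTensor_incl p.asIdeal.ResidueField S) n).symm

omit [Algebra.FinitePresentation A B] [Module.Flat A B] in
/-- A finite module vanishing on all fibres vanishes. -/
theorem subsingleton_of_fibres (M : Type u) [AddCommGroup M] [Module B M] [Module.Finite B M]
    (h : ∀ p : PrimeSpectrum A,
      Subsingleton ((B ⊗[A] p.asIdeal.ResidueField) ⊗[B] M)) : Subsingleton M := by
  rw [← Module.support_eq_empty_iff (R := B)]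
  refine Set.eq_empty_iff_forall_notMem.mpr fun q hq => ?_
  let p : PrimeSpectrum A := PrimeSpectrum.comap (algebraMap A B) q
  let F := p.asIdeal.ResidueField
  haveI := h p
  haveI hn := Module.mem_support_iff_nontrivial_residueField_tensorProduct (R := B) (M := M) q |>.mp hq
  let θ : F →ₐ[A] q.asIdeal.ResidueField := Ideal.ResidueField.mapₐ p.asIdeal q.asIdeal (Algebra.ofId A B) rfl
  let Φ : B ⊗[A] F →ₐ[B] q.asIdeal.ResidueField :=
    Algebra.TensorProduct.lift (Algebra.ofId B _) θ fun _ _ => Commute.all _ _
  letI : Algebra (B ⊗[A] F) q.asIdeal.ResidueField := Φ.toRingHom.toAlgebra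
  haveI : IsScalarTower B (B ⊗[A] F) q.asIdeal.ResidueField :=
    IsScalarTower.of_algebraMap_eq fun x => (Φ.commutes x).symm
  let e := AlgebraTensorModule.cancelBaseChange B (B ⊗[A] F) (B ⊗[A] F) q.asIdeal.ResidueField M
  haveI : Subsingleton (q.asIdeal.ResidueField ⊗[B ⊗[A] F] ((B ⊗[A] F) ⊗[B] M)) :=
    subsingleton_of_forall_eq 0 fun x => by
      induction x using TensorProduct.induction_on with
      | zero => rfl
      | add a b ha hb => rw [ha, hb, add_zero]
      | tmul a b => rw [Subsingleton.elim b 0, tmul_zero]
  exact not_subsingleton _ e.symm.toEquiv.subsingleton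

/-- **Projective dimension is the supremum over the fibres.** -/
theorem projectiveDimension_eq_iSup (S : FlatFPMod A B) :
    projectiveDimension (ModuleCat.of B S.carrier) =
      ⨆ p : PrimeSpectrum A, projectiveDimension
        (ModuleCat.of (B ⊗[A] p.asIdeal.ResidueField)
          ((B ⊗[A] p.asIdeal.ResidueField) ⊗[B] S.carrier)) := by
  refine eq_of_forall_ge_iff fun c => ?_
  rw [iSup_le_iff]
  induction c with
  | bot =>
    simp only [le_bot_iff, projectiveDimension_eq_bot_iff, ModuleCat.isZero_iff_subsingleton]
    refine ⟨fun h p => ?_, fun h => subsingleton_of_fibres (A := A) S.carrier h⟩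
    refine subsingleton_of_forall_eq 0 fun x => ?_
    induction x using TensorProduct.induction_on with
    | zero => rfl
    | add a b ha hb => rw [ha, hb, add_zero]
    | tmul a b => rw [Subsingleton.elim b 0, tmul_zero]
  | coe c =>
    induction c with
    | top => simp
    | coe n =>
      rw [show (((n : ℕ∞) : WithBot ℕ∞)) = ((n : ℕ) : WithBot ℕ∞) from rfl]
      simp only [projectiveDimension_le_iff]
      exact pdLE_iff_fibres n S

end GrothLib.FlatFP
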