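import Groth.Agent.Lib.FlatFP.PullbackFlat
import Groth.Agent.Lib.FlatFP.InjCokerSheaf

/-!
# Stalk maps of pullbacks of homomorphisms, on affine opens
-/

set_option autoImplicit false
universe u

open CategoryTheory CategoryTheory.Limits AlgebraicGeometry Opposite TopologicalSpace TensorProduct

namespace GrothLib.FlatFP

/-- Localised maps: injectivity criterion. -/
theorem injective_localized_iff {R : Type u} [CommRing R] (P : Submonoid R) {M N M' N' : Type u}
    [AddCommGroup M] [Module R M] [AddCommGroup N] [Module R N] [AddCommGroup M'] [Module R M']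
    [AddCommGroup N'] [Module R N'] (f : M →ₗ[R] M') (g : N →ₗ[R] N') [IsLocalizedModule P f]
    [IsLocalizedModule P g] (u : M →ₗ[R] N) (φ : M' →ₗ[R] N') (h : ∀ x, φ (f x) = g (u x)) :
    Function.Injective φ ↔ ∀ z, u z = 0 → ∃ t ∈ P, t • z = 0 := by
  constructor
  · intro hφ z hz
    obtain ⟨t, ht⟩ := (IsLocalizedModule.eq_zero_iff P f).mp
      (hφ (by rw [h, hz, map_zero, map_zero]))
    exact ⟨t, t.2, ht⟩
  · intro hu
    rw [injective_iff_map_eq_zero]
    intro y hy
    obtain ⟨⟨x, t⟩, hx⟩ := IsLocalizedModule.surj P f y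
    have h1 : g (u x) = 0 := by
      rw [← h, ← hx]
      show φ ((t : R) • y) = 0
      rw [map_smul, hy, smul_zero]
    obtain ⟨c, hc⟩ := (IsLocalizedModule.eq_zero_iff P g).mp h1
    obtain ⟨t', ht', ht0⟩ := hu ((c : R) • x) (by rw [map_smul]; exact hc)
    apply ((Module.End.isUnit_iff _).mp
      (IsLocalizedModule.map_units (S := P) f (⟨t', ht'⟩ * c * t))).1
    show ((t' * c * t : R)) • y = ((t' * c * t : R)) • (0 : M')
    rw [smul_zero, mul_smul, show (t : R) • y = f x from hx, ← map_smul, mul_smul, ht0, map_zero]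

variable {X X₀ : Scheme.{u}}

set_option maxHeartbeats 1000000 in
/-- Injectivity of the stalk map of a pullback, read on affine opens. -/
theorem injective_stalkMap_pullback_iff (q : X ⟶ X₀) {F₀ G₀ : X₀.Modules} [F₀.IsQuasicoherent]
    [G₀.IsQuasicoherent] (h : F₀ ⟶ G₀) {U₀ : X₀.Opens} (hU₀ : IsAffineOpen U₀) {U : X.Opens}
    (hU : IsAffineOpen U) (e : U ≤ q ⁻¹ᵁ U₀) {x : X} (hx : x ∈ U) [Algebra Γ(X₀, U₀) Γ(X, U)]
    (halg : algebraMap Γ(X₀, U₀) Γ(X, U) = (q.appLE U₀ U e).hom) :
    Function.Injective ((TopCat.Presheaf.stalkFunctor Ab x).map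
        (Scheme.Modules.Hom.mapPresheaf ((Scheme.Modules.pullback q).map h))) ↔
      ∀ z, (QCoh.appLinear h U₀).baseChange Γ(X, U) z = 0 →
        ∃ t ∉ WeakAss.primeAt x hx, t • z = 0 := by
  let Ox := X.presheaf.stalk x
  let Oy := X₀.presheaf.stalk (q.base x)
  let B₀ := Γ(X₀, U₀)
  let B := Γ(X, U)
  letI := X.presheaf.algebra_section_stalk ⟨x, hx⟩
  haveI := isLocalization_stalk_primeAt hU hx
  letI := X₀.presheaf.algebra_section_stalk ⟨q.base x, e hx⟩
  haveI := isLocalization_stalk_primeAt hU₀ (e hx)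
  letI : Module B₀ (F₀.presheaf.stalk (q.base x)) :=
    Module.compHom _ (X₀.presheaf.germ U₀ (q.base x) (e hx)).hom
  haveI : IsScalarTower B₀ Oy (F₀.presheaf.stalk (q.base x)) :=
    IsScalarTower.of_algebraMap_smul fun _ _ => rfl
  letI : Module B₀ (G₀.presheaf.stalk (q.base x)) :=
    Module.compHom _ (X₀.presheaf.germ U₀ (q.base x) (e hx)).hom
  haveI : IsScalarTower B₀ Oy (G₀.presheaf.stalk (q.base x)) :=
    IsScalarTower.of_algebraMap_smul fun _ _ => rfl
  letI : Algebra Oy Ox := (q.stalkMap x).hom.toAlgebra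
  letI : Algebra B₀ Ox := ((algebraMap B Ox).comp (algebraMap B₀ B)).toAlgebra
  haveI : IsScalarTower B₀ B Ox := IsScalarTower.of_algebraMap_eq fun _ => rfl
  haveI : IsScalarTower B₀ Oy Ox :=
    IsScalarTower.of_algebraMap_eq fun a => by
      show X.presheaf.germ U x hx (algebraMap B₀ B a) =
        (q.stalkMap x) (X₀.presheaf.germ U₀ (q x) (e hx) a)
      rw [Scheme.Hom.germ_stalkMap_apply, halg]
      exact TopCat.Presheaf.germ_res_apply X.presheaf (homOfLE e) x hx _
  obtain ⟨fF, hfF, hfF'⟩ := isLocalizedModule_germ F₀ hU₀ (e hx)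
  obtain ⟨fG, hfG, hfG'⟩ := isLocalizedModule_germ G₀ hU₀ (e hx)
  let P := (WeakAss.primeAt x hx).primeCompl
  let mF : Γ(F₀, U₀) →ₗ[B₀] Ox ⊗[Oy] F₀.presheaf.stalk (q.base x) :=
    ((TensorProduct.mk Oy Ox (F₀.presheaf.stalk (q.base x)) 1).restrictScalars B₀).comp fF
  let mG : Γ(G₀, U₀) →ₗ[B₀] Ox ⊗[Oy] G₀.presheaf.stalk (q.base x) :=
    ((TensorProduct.mk Oy Ox (G₀.presheaf.stalk (q.base x)) 1).restrictScalars B₀).comp fG
  haveI : SMulCommClass Oy B Ox := ⟨fun a b c => by simp [Algebra.smul_def, mul_left_comm]⟩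
  have hloc : ∀ (M₀ : X₀.Modules) [Module B₀ (M₀.presheaf.stalk (q.base x))]
      [IsScalarTower B₀ Oy (M₀.presheaf.stalk (q.base x))]
      [IsScalarTower B Ox (Ox ⊗[Oy] M₀.presheaf.stalk (q.base x))]
      [IsScalarTower B₀ B (Ox ⊗[Oy] M₀.presheaf.stalk (q.base x))]
      (f : Γ(M₀, U₀) →ₗ[B₀] M₀.presheaf.stalk (q.base x)),
      IsLocalizedModule (WeakAss.primeAt (q.base x) (e hx)).primeCompl f →
      IsLocalizedModule P ((((TensorProduct.mk Oy Ox (M₀.presheaf.stalk (q.base x)) 1).restrictScalars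
        B₀).comp f).liftBaseChange B) := by
    intro M₀ _ _ _ _ f hf
    refine (isLocalizedModule_iff_isBaseChange P Ox _).mpr ?_
    refine IsBaseChange.of_comp (TensorProduct.isBaseChange B₀ Γ(M₀, U₀) B) ?_
    convert (IsLocalizedModule.isBaseChange (WeakAss.primeAt (q.base x) (e hx)).primeCompl Oy f).comp
      (TensorProduct.isBaseChange Oy (M₀.presheaf.stalk (q.base x)) Ox) using 1
    ext m
    simp
  haveI : IsScalarTower B Ox (Ox ⊗[Oy] F₀.presheaf.stalk (q.base x)) :=
    TensorProduct.isScalarTower_left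
  haveI : IsScalarTower B₀ B (Ox ⊗[Oy] F₀.presheaf.stalk (q.base x)) :=
    IsScalarTower.of_algebraMap_smul fun r z => by
      rw [← algebraMap_smul Ox (algebraMap B₀ B r) z, ← IsScalarTower.algebraMap_apply,
        algebraMap_smul]
  haveI : IsScalarTower B Ox (Ox ⊗[Oy] G₀.presheaf.stalk (q.base x)) :=
    TensorProduct.isScalarTower_left
  haveI : IsScalarTower B₀ B (Ox ⊗[Oy] G₀.presheaf.stalk (q.base x)) :=
    IsScalarTower.of_algebraMap_smul fun r z => by
      rw [← algebraMap_smul Ox (algebraMap B₀ B r) z, ← IsScalarTower.algebraMap_apply,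
        algebraMap_smul]
  haveI := hloc F₀ fF hfF
  haveI := hloc G₀ fG hfG
  let s₀ : F₀.presheaf.stalk (q.base x) →ₗ[Oy] G₀.presheaf.stalk (q.base x) :=
    ((OX.stalk (q.base x)).map h).hom
  let φ := (s₀.baseChange Ox).restrictScalars B
  refine Iff.trans ?_ (injective_localized_iff P (mF.liftBaseChange B) (mG.liftBaseChange B)
    ((QCoh.appLinear h U₀).baseChange B) φ fun z => by
      induction z using TensorProduct.induction_on with
      | zero => simp
      | add a b ha hb => simp only [map_add, ha, hb]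
      | tmul b m =>
        rw [LinearMap.baseChange_tmul, LinearMap.liftBaseChange_tmul, LinearMap.liftBaseChange_tmul,
          map_smul]
        refine congrArg (b • ·) ?_
        show s₀.baseChange Ox ((1 : Ox) ⊗ₜ[Oy] fF m) = (1 : Ox) ⊗ₜ[Oy] fG (QCoh.appLinear h U₀ m)
        rw [LinearMap.baseChange_tmul, hfF', hfG']
        congr 1
        exact stalkMap_germ h (e hx) m)
  -- the natural iso
  let S := ((Scheme.Modules.pullback q).map h)
  let iF := ((QCoh.stalkPullbackIso q x).app F₀).toLinearEquiv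
  let iG := ((QCoh.stalkPullbackIso q x).app G₀).toLinearEquiv
  let ψ : ((Scheme.Modules.pullback q).obj F₀).presheaf.stalk x →ₗ[Ox]
      ((Scheme.Modules.pullback q).obj G₀).presheaf.stalk x := ((OX.stalk x).map S).hom
  have hnat : ∀ m, iG (ψ m) = (s₀.baseChange Ox) (iF m) := fun m => by
    have h1 := congrArg (fun f => f.hom m) ((QCoh.stalkPullbackIso q x).hom.naturality h)
    exact h1
  show Function.Injective ψ ↔ Function.Injective (s₀.baseChange Ox)
  constructor
  · intro hψ a b hab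
    obtain ⟨a, rfl⟩ := iF.surjective a
    obtain ⟨b, rfl⟩ := iF.surjective b
    rw [← hnat, ← hnat] at hab
    exact congrArg iF (hψ (iG.injective hab))
  · intro hφ a b hab
    apply iF.injective
    apply hφ
    rw [← hnat, ← hnat, hab]

end GrothLib.FlatFP
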