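import Groth.Agent.Lib.FlatFP.ProjDim
import Groth.Agent.Lib.FlatFP.TorShift

/-!
# Projective dimension equals Tor dimension for flat finitely presented modules
-/

universe u

open CategoryTheory TensorProduct

namespace GrothLib.FlatFP

open GrothLib.Serre

variable {A B : Type u} [CommRing A] [CommRing B] [Algebra A B] [Algebra.FinitePresentation A B]
  [Module.Flat A B]

theorem isZero_tor_succ_iff_next (S : FlatFPMod A B) (N : ModuleCat.{u} B) (i : ℕ) :
    Limits.IsZero (((Tor (ModuleCat.{u} B) (i + 2)).obj (ModuleCat.of B S.carrier)).obj N) ↔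
      Limits.IsZero (((Tor (ModuleCat.{u} B) (i + 1)).obj (ModuleCat.of B S.next.carrier)).obj N) := by
  let T : ShortComplex (ModuleCat.{u} B) :=
    ShortComplex.mk (ModuleCat.ofHom S.incl) (ModuleCat.ofHom S.aug)
      (ModuleCat.hom_ext (LinearMap.ext fun z => S.exact_incl_aug.apply_apply_eq_zero z))
  have hT : T.ShortExact :=
    { exact := (ShortComplex.moduleCat_exact_iff _).2 fun v hv => (S.exact_incl_aug v).1 hv
      mono_f := (ModuleCat.mono_iff_injective _).2 S.incl_injective
      epi_g := (ModuleCat.epi_iff_surjective _).2 S.aug_surjective }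
  haveI : Module.Flat B T.X₂ := (inferInstance : Module.Flat B (Fin S.rk → B))
  exact isZero_tor_succ_iff T hT N i

theorem forall_isZero_tor_succ_iff : ∀ (i : ℕ) (S : FlatFPMod A B),
    (∀ N, Limits.IsZero (((Tor (ModuleCat.{u} B) (i + 1)).obj (ModuleCat.of B S.carrier)).obj N)) ↔
      PdLE B S.carrier i
  | 0, S => by
    rw [forall_isZero_tor_one_iff_flat, pdLE_zero_iff]
    refine ⟨fun h => ?_, fun h => ?_⟩
    · haveI : Module.Flat B S.carrier := h
      exact Module.Flat.projective_of_finitePresentation
    · exact (inferInstance : Module.Flat B S.carrier)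
  | i + 1, S => by
    simp only [isZero_tor_succ_iff_next S]
    exact (forall_isZero_tor_succ_iff i S.next).trans (pdLE_succ_iff S.aug S.aug_surjective i).symm

/-- **Projective dimension equals Tor dimension.** -/
theorem projectiveDimension_eq_torDim (S : FlatFPMod A B) :
    projectiveDimension (ModuleCat.of B S.carrier) =
      sInf {n : WithBot ℕ∞ | ∀ i : ℕ, n < i → ∀ N : ModuleCat.{u} B,
        Limits.IsZero (((Tor (ModuleCat.{u} B) i).obj (ModuleCat.of B S.carrier)).obj N)} := by
  have key : ∀ i : ℕ, HasProjectiveDimensionLT (ModuleCat.of B S.carrier) i ↔ ∀ N : ModuleCat.{u} B,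
      Limits.IsZero (((Tor (ModuleCat.{u} B) i).obj (ModuleCat.of B S.carrier)).obj N) := by
    rintro (_ | i)
    · rw [hasProjectiveDimensionLT_zero_iff_isZero, ModuleCat.isZero_iff_subsingleton,
        forall_isZero_tor_zero_iff]
    · exact (forall_isZero_tor_succ_iff i S).symm
  simp only [projectiveDimension, key]

end GrothLib.FlatFP
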